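import Cfsg.Agent.ZN.ChoiceSit

/-!
# THEOREM M5 (helper693 #24218): `V ≤ Z(O₂(M₀))` at every level (helper829, verdict on #24218)

`z 0, ..., z 4` are the heavy vectors of `V = Even(5)` (`z 0 z 1 z 2 z 3 z 4 = 1`), `L` induces permutations on them,
`L ∩ C(z 0) ≤ M₀ ≤ C(z 0)`, `X ≤ M₀` centralises `z 0, z 3, z 4`.

* `mem_normalizer_of_moves` : if some `q` of a subgroup `K ≤ N(V)` which `X` normalises does not fix
  `{z 0, z 3, z 4}`, then `X ≤ N(V)`;
* `o2_cent` : `O₂(M₀)` centralises `V`;  `V_le_o2` : `V ≤ O₂(M₀)`;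
* `wab` : `⟨V^{M₀}⟩` is elementary abelian; `cw` : `C_{⟨V^{M₀}⟩}(T) ≤ ⟨z 0, z 3, z 4⟩`.
-/

set_option autoImplicit false
set_option linter.unusedSectionVars false
set_option linter.unusedVariables false

namespace Cfsg.Agent.Omega.NO3S.MFive

open Subgroup Cfsg Cfsg.Agent.ZN Cfsg.Agent.ZN.ChoiceBase
open Cfsg.Agent.ZN.ChoiceSit (Syl o2_le isPGroup_o2 le_o2 le_normalizer_o2 o2_le_syl)

universe u

variable {G : Type u} [Group G]

theorem exists_perm_three : ∀ i j : Fin 5, i ≠ 0 → j ≠ 0 → i ≠ j →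
    ∃ τ : Equiv.Perm (Fin 5), τ 0 = 0 ∧ τ 3 = i ∧ τ 1 = j := by
  intro i j hi hj hij
  refine ⟨Equiv.swap (Equiv.swap 3 i 1) j * Equiv.swap 3 i, ?_⟩
  revert i j
  decide

/-- the relation between the `z a`, `V` is generated by `z 0, z 3, z 4` and one of `z 1`, `z 2` -/
theorem closure_le_of {z : Fin 5 → G} (sq : ∀ a, z a * z a = 1) (comm : ∀ a b, z a * z b = z b * z a)
    (prod : z 0 = z 1 * z 2 * z 3 * z 4) {U : Subgroup G} (h0 : z 0 ∈ U) (h3 : z 3 ∈ U) (h4 : z 4 ∈ U)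
    (h12 : z 1 ∈ U ∨ z 2 ∈ U) : closure (Set.range z) ≤ U := by
  have e1 : z 1 = z 0 * z 2 * z 3 * z 4 := by
    rw [prod]
    have h22 := sq 2
    have h33 := sq 3
    have h44 := sq 4
    calc z 1 = z 1 * (z 2 * z 2) * (z 3 * z 3) * (z 4 * z 4) := by rw [h22, h33, h44]; simp
      _ = z 1 * z 2 * (z 2 * (z 3 * z 3)) * (z 4 * z 4) := by group
      _ = z 1 * z 2 * (z 2 * z 3 * z 3) * (z 4 * z 4) := by group
      _ = z 1 * z 2 * (z 3 * z 2 * z 3) * (z 4 * z 4) := by rw [comm 2 3]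
      _ = z 1 * z 2 * z 3 * (z 2 * z 3 * z 4) * z 4 := by group
      _ = z 1 * z 2 * z 3 * (z 4 * (z 2 * z 3)) * z 4 := by
          congr 2
          calc z 2 * z 3 * z 4 = z 2 * (z 3 * z 4) := by group
            _ = z 2 * (z 4 * z 3) := by rw [comm 3 4]
            _ = z 2 * z 4 * z 3 := by group
            _ = z 4 * z 2 * z 3 := by rw [comm 2 4]
            _ = z 4 * (z 2 * z 3) := by group
      _ = z 1 * z 2 * z 3 * z 4 * z 2 * z 3 * z 4 := by group
  have e2 : z 2 = z 0 * z 1 * z 3 * z 4 := by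
    have h11 := sq 1
    have h22 := sq 2
    calc z 2 = z 1 * z 1 * z 2 := by rw [h11]; simp
      _ = z 1 * (z 1 * z 2) := by group
      _ = z 1 * (z 2 * z 1) := by rw [comm 1 2]
      _ = z 1 * (z 2 * (z 0 * z 2 * z 3 * z 4)) := by rw [← e1]
      _ = z 1 * (z 2 * z 0 * z 2 * z 3 * z 4) := by group
      _ = z 1 * (z 0 * z 2 * z 2 * z 3 * z 4) := by rw [comm 2 0]
      _ = z 1 * z 0 * (z 2 * z 2) * z 3 * z 4 := by group
      _ = z 0 * z 1 * z 3 * z 4 := by rw [h22, comm 1 0]; group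
  have h1 : z 1 ∈ U := by
    rcases h12 with h | h
    · exact h
    · rw [e1]
      exact mul_mem (mul_mem (mul_mem h0 h) h3) h4
  have h2 : z 2 ∈ U := by
    rw [e2]
    exact mul_mem (mul_mem (mul_mem h0 h1) h3) h4
  rw [closure_le]
  rintro _ ⟨a, rfl⟩
  fin_cases a
  exacts [h0, h1, h2, h3, h4]

section

variable {z : Fin 5 → G} (sq : ∀ a, z a * z a = 1) (comm : ∀ a b, z a * z b = z b * z a)
  (prod : z 0 = z 1 * z 2 * z 3 * z 4)

include sq comm prod

/-- If `q` in a group `K ≤ N(V)` normalised by `x` maps one of `z 0, z 3, z 4` to `z 1` or `z 2`, and `x` centralises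
`z 0, z 3, z 4`, then `x ∈ N(V)`. -/
theorem mem_normalizer_of_moves [Finite G] {K : Subgroup G} (hK : K ≤ normalizer (closure (Set.range z) : Set G))
    {x q : G} (hx : ∀ k : Fin 5, k ≠ 1 → k ≠ 2 → x * z k = z k * x) (hq : q ∈ K) (hxK : ∀ k ∈ K, x * k * x⁻¹ ∈ K)
    {c d : Fin 5} (hc1 : c ≠ 1) (hc2 : c ≠ 2) (hd : d = 1 ∨ d = 2) (hqc : q * z c * q⁻¹ = z d) :
    x ∈ normalizer (closure (Set.range z) : Set G) := by
  set V := closure (Set.range z) with hV
  have hzV : ∀ a, z a ∈ V := fun a => subset_closure ⟨a, rfl⟩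
  -- `k = x q⁻¹ x⁻¹ q`-type element
  have hk : x * q * x⁻¹ * q⁻¹ ∈ K := mul_mem (hxK q hq) (inv_mem hq)
  have hkN := hK hk
  -- `x * z d * x⁻¹ = k * z d * k⁻¹`
  have e : x * z d * x⁻¹ = (x * q * x⁻¹ * q⁻¹) * z d * (x * q * x⁻¹ * q⁻¹)⁻¹ := by
    have h1 : x * z c * x⁻¹ = z c := by rw [hx c hc1 hc2]; group
    have h2 : q⁻¹ * z d * q = z c := by rw [← hqc]; group
    calc x * z d * x⁻¹ = x * (q * z c * q⁻¹) * x⁻¹ := by rw [hqc]
      _ = (x * q * x⁻¹) * (x * z c * x⁻¹) * (x * q * x⁻¹)⁻¹ := by group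
      _ = (x * q * x⁻¹) * z c * (x * q * x⁻¹)⁻¹ := by rw [h1]
      _ = (x * q * x⁻¹) * (q⁻¹ * z d * q) * (x * q * x⁻¹)⁻¹ := by rw [h2]
      _ = _ := by group
  have hd' : x * z d * x⁻¹ ∈ V := by
    rw [e]
    exact (mem_normalizer_iff.1 hkN _).1 (hzV d)
  have hle : V ≤ V.comap (MulAut.conj x).toMonoidHom := by
    have hm : ∀ a, x * z a * x⁻¹ ∈ V → z a ∈ V.comap (MulAut.conj x).toMonoidHom := fun a ha => ha
    have hf : ∀ k : Fin 5, k ≠ 1 → k ≠ 2 → x * z k * x⁻¹ ∈ V := by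
      intro k h1 h2
      have : x * z k * x⁻¹ = z k := by rw [hx k h1 h2]; group
      rw [this]
      exact hzV k
    refine closure_le_of sq comm prod (hm 0 (hf 0 (by decide) (by decide))) (hm 3 (hf 3 (by decide) (by decide)))
      (hm 4 (hf 4 (by decide) (by decide))) ?_
    rcases hd with rfl | rfl
    · exact Or.inl (hm 1 hd')
    · exact Or.inr (hm 2 hd')
  refine mem_normalizer_of_cj_le ?_
  rintro _ ⟨v, hv, rfl⟩
  exact hle hv

end

/-- The frame of `V ≤ Z(O₂(M₀))`. -/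
structure WF (L M₀ X S₀ : Subgroup G) (z : Fin 5 → G) : Prop where
  sq : ∀ a, z a * z a = 1
  comm : ∀ a b, z a * z b = z b * z a
  prod : z 0 = z 1 * z 2 * z 3 * z 4
  act : ∀ g ∈ L, ∃ σ : Equiv.Perm (Fin 5), ∀ a, g * z a * g⁻¹ = z (σ a)
  full : ∀ σ : Equiv.Perm (Fin 5), ∃ g ∈ L, ∀ a, g * z a * g⁻¹ = z (σ a)
  inj : Function.Injective z
  NL : normalizer (closure (Set.range z) : Set G) ≤ L
  LM : L ⊓ centralizer ({z 0} : Set G) ≤ M₀
  MC : M₀ ≤ centralizer ({z 0} : Set G)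
  XM : X ≤ M₀
  hX : ∀ x ∈ X, ∀ k : Fin 5, k ≠ 1 → k ≠ 2 → x * z k = z k * x
  nX : ¬ X ≤ L
  syl : Syl S₀ (centralizer ({z 0} : Set G))
  SL : S₀ ≤ L
  c2 : centralizer ({z 0} : Set G) ⊓ centralizer (o2 (centralizer ({z 0} : Set G)) : Set G) ≤
    o2 (centralizer ({z 0} : Set G))

namespace WF

variable [Finite G] {L M₀ X S₀ : Subgroup G} {z : Fin 5 → G} (h : WF L M₀ X S₀ z)

include h

theorem z_mem (a : Fin 5) : z a ∈ closure (Set.range z) := subset_closure ⟨a, rfl⟩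

theorem L_le_norm : L ≤ normalizer (closure (Set.range z) : Set G) := by
  intro g hg
  refine mem_normalizer_of_cj_le ?_
  obtain ⟨σ, hσ⟩ := h.act g hg
  rw [map_le_iff_le_comap, closure_le]
  rintro _ ⟨a, rfl⟩
  show g * z a * g⁻¹ ∈ closure (Set.range z)
  rw [hσ]
  exact h.z_mem _

theorem S_le : S₀ ≤ M₀ := (le_inf h.SL h.syl.1).trans h.LM

theorem o2_le_S : o2 M₀ ≤ S₀ := by
  refine o2_le_syl ⟨h.S_le, h.syl.2.1, fun Q hQ hQ2 hSQ => h.syl.2.2 Q (hQ.trans h.MC) hQ2 hSQ⟩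

theorem o2_le_L : o2 M₀ ≤ L := h.o2_le_S.trans h.SL

theorem cj_o2 {m q : G} (hm : m ∈ M₀) (hq : q ∈ o2 M₀) : m * q * m⁻¹ ∈ o2 M₀ :=
  (mem_normalizer_iff.1 (le_normalizer_o2 M₀ hm) q).1 hq

theorem cj_o2' {m q : G} (hm : m ∈ M₀) (hq : q ∈ o2 M₀) : m⁻¹ * q * m ∈ o2 M₀ := by
  have := h.cj_o2 (inv_mem hm) hq
  rwa [inv_inv] at this

/-- `O₂(M₀)` stabilises `{z 0, z 3, z 4}`. -/
theorem stab {q : G} (hq : q ∈ o2 M₀) {c d : Fin 5} (hc1 : c ≠ 1) (hc2 : c ≠ 2) (hqc : q * z c * q⁻¹ = z d) :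
    d ≠ 1 ∧ d ≠ 2 := by
  by_contra hcon
  have hd : d = 1 ∨ d = 2 := by
    by_contra h1
    push Not at h1
    exact hcon h1
  apply h.nX
  intro x hx
  apply h.NL
  exact mem_normalizer_of_moves h.sq h.comm h.prod (h.o2_le_L.trans h.L_le_norm) (h.hX x hx) hq
    (fun k hk => h.cj_o2 (h.XM hx) hk) hc1 hc2 hd hqc

/-- `O₂(M₀)` centralises `V`. -/
theorem o2_comm {q : G} (hq : q ∈ o2 M₀) (a : Fin 5) : q * z a * q⁻¹ = z a := by
  obtain ⟨σ, hσ⟩ := h.act q (h.o2_le_L hq)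
  have h0 : σ 0 = 0 := by
    have h1 : q * z 0 * q⁻¹ = z 0 := by
      have h2 : q * z 0 = z 0 * q := (mem_centralizer_singleton_iff.1 (h.MC (o2_le _ hq)))
      rw [h2]; group
    rw [hσ] at h1
    exact h.inj h1
  rw [hσ]
  by_contra hne
  have hna : σ a ≠ a := fun h1 => hne (by rw [h1])
  have ha0 : a ≠ 0 := by rintro rfl; exact hna h0
  have hs0 : σ a ≠ 0 := by
    intro h1
    rw [← h0] at h1
    exact ha0 (σ.injective h1)
  obtain ⟨τ, ht0, ht3, ht1⟩ := exists_perm_three a (σ a) ha0 hs0 hna.symm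
  obtain ⟨g, hg, hgt⟩ := h.full τ
  have hgM : g ∈ M₀ := by
    apply h.LM
    refine ⟨hg, mem_centralizer_singleton_iff.2 ?_⟩
    have h1 := hgt 0
    rw [ht0] at h1
    calc g * z 0 = (g * z 0 * g⁻¹) * g := by group
      _ = z 0 * g := by rw [h1]
  -- `g⁻¹ q g` maps `z 3` to `z 1`
  have h3 : (g⁻¹ * q * g) * z 3 * (g⁻¹ * q * g)⁻¹ = z 1 := by
    have e3 : g * z 3 * g⁻¹ = z a := by rw [hgt, ht3]
    have e1 : g * z 1 * g⁻¹ = z (σ a) := by rw [hgt, ht1]
    calc (g⁻¹ * q * g) * z 3 * (g⁻¹ * q * g)⁻¹ = g⁻¹ * (q * (g * z 3 * g⁻¹) * q⁻¹) * g := by group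
      _ = g⁻¹ * (g * z 1 * g⁻¹) * g := by rw [e3, hσ, e1]
      _ = z 1 := by group
  exact (h.stab (h.cj_o2' hgM hq) (by decide) (by decide) h3).1 rfl

theorem o2_cent : o2 M₀ ≤ centralizer (closure (Set.range z) : Set G) := by
  rw [centralizer_closure]
  intro q hq
  rw [mem_centralizer_iff]
  rintro _ ⟨a, rfl⟩
  have h1 := h.o2_comm hq a
  calc z a * q = (q * z a * q⁻¹) * q := by rw [h1]
    _ = q * z a := by group

theorem V_cent : closure (Set.range z) ≤ centralizer (o2 M₀ : Set G) := by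
  rw [closure_le]
  rintro _ ⟨a, rfl⟩
  rw [SetLike.mem_coe, mem_centralizer_iff]
  intro q hq
  have h1 := h.o2_comm hq a
  calc q * z a = (q * z a * q⁻¹) * q := by group
    _ = z a * q := by rw [h1]

theorem o2_C_le : o2 (centralizer ({z 0} : Set G)) ≤ o2 M₀ := by
  refine le_o2 (isPGroup_o2 _) ((o2_le_syl h.syl).trans h.S_le) ?_
  exact h.MC.trans (le_normalizer_o2 _)

theorem V_le_C : closure (Set.range z) ≤ centralizer ({z 0} : Set G) := by
  rw [closure_le]
  rintro _ ⟨a, rfl⟩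
  exact mem_centralizer_singleton_iff.2 (h.comm a 0)

theorem V_le_o2 : closure (Set.range z) ≤ o2 M₀ := by
  refine le_trans ?_ h.o2_C_le
  refine le_trans ?_ h.c2
  exact le_inf h.V_le_C (h.V_cent.trans (centralizer_le h.o2_C_le))

/-- `V ≤ Z(O₂(M₀))` for all conjugates in `M₀`. -/
theorem cj_le {m : G} (hm : m ∈ M₀) : cj m (closure (Set.range z)) ≤ o2 M₀ ⊓ centralizer (o2 M₀ : Set G) := by
  have h1 : cj m (o2 M₀) = o2 M₀ := mem_normalizer_iff_cj.1 (le_normalizer_o2 M₀ hm)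
  refine le_inf ?_ ?_
  · rw [← h1]
    exact cj_mono m h.V_le_o2
  · have h2 := cj_mono m h.V_cent
    rw [cj_centralizer, h1] at h2
    exact h2

/-- every subgroup generated by `M₀`-conjugates of `V` is elementary abelian -/
theorem wab {W : Subgroup G} (hW : W = ⨆ m : M₀, cj (m : G) (closure (Set.range z))) :
    (∀ x ∈ W, x * x = 1) ∧ ∀ x ∈ W, ∀ y ∈ W, x * y = y * x := by
  have hle : W ≤ o2 M₀ ⊓ centralizer (o2 M₀ : Set G) := by
    rw [hW]
    exact iSup_le fun m => h.cj_le m.2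
  have hc : ∀ x ∈ W, ∀ y ∈ W, x * y = y * x := fun x hx y hy =>
    (mem_centralizer_iff.1 (hle hy).2 x (hle hx).1)
  refine ⟨?_, hc⟩
  let U : Subgroup G :=
    { carrier := {x | x ∈ W ∧ x * x = 1}
      one_mem' := ⟨one_mem _, by simp⟩
      mul_mem' := by
        rintro a b ⟨ha, ha2⟩ ⟨hb, hb2⟩
        refine ⟨mul_mem ha hb, ?_⟩
        calc a * b * (a * b) = a * (b * a) * b := by group
          _ = a * (a * b) * b := by rw [hc b hb a ha]
          _ = (a * a) * (b * b) := by group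
          _ = 1 := by rw [ha2, hb2]; simp
      inv_mem' := by
        rintro a ⟨ha, ha2⟩
        refine ⟨inv_mem ha, ?_⟩
        calc a⁻¹ * a⁻¹ = (a * a)⁻¹ := by group
          _ = 1 := by rw [ha2]; simp }
  have hV2 : ∀ v ∈ closure (Set.range z), v * v = 1 := by
    have hVc : ∀ v ∈ closure (Set.range z), ∀ w ∈ closure (Set.range z), v * w = w * v := fun v hv w hw =>
      mem_centralizer_iff.1 (h.V_cent hw) v (h.V_le_o2 hv)
    intro v hv
    refine closure_induction (p := fun v _ => v * v = 1) ?_ (by simp) ?_ ?_ hv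
    · rintro _ ⟨a, rfl⟩
      exact h.sq a
    · intro a b ha hb h1 h2
      calc a * b * (a * b) = a * (b * a) * b := by group
        _ = a * (a * b) * b := by rw [hVc b hb a ha]
        _ = (a * a) * (b * b) := by group
        _ = 1 := by rw [h1, h2]; simp
    · intro a _ h1
      calc a⁻¹ * a⁻¹ = (a * a)⁻¹ := by group
        _ = 1 := by rw [h1]; simp
  have hWU : W ≤ U := by
    have : (⨆ m : M₀, cj (m : G) (closure (Set.range z))) ≤ U := by
      refine iSup_le fun m => ?_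
      rintro _ ⟨v, hv, rfl⟩
      refine ⟨?_, ?_⟩
      · rw [hW]
        exact mem_iSup_of_mem m ⟨v, hv, rfl⟩
      · show (m : G) * v * (m : G)⁻¹ * ((m : G) * v * (m : G)⁻¹) = 1
        calc (m : G) * v * (m : G)⁻¹ * ((m : G) * v * (m : G)⁻¹) = (m : G) * (v * v) * (m : G)⁻¹ := by group
          _ = 1 := by rw [hV2 v hv]; simp
    rwa [← hW] at this
  exact fun x hx => (hWU hx).2

/-- `C_W(T) ≤ ⟨z 0, z 3, z 4⟩`, so every subgroup centralising `z 0, z 3, z 4` centralises it. -/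
theorem cw {W : Subgroup G} (hW : W = ⨆ m : M₀, cj (m : G) (closure (Set.range z))) {Q T Y : Subgroup G}
    (hQ : Syl Q (centralizer (closure (Set.range z) : Set G))) (QT : Q ≤ T)
    (hZ : ∀ x ∈ Q, x * x = 1 → (∀ q ∈ Q, q * x = x * q) → x ∈ closure (Set.range z))
    (CL : centralizer (closure (Set.range z) : Set G) ≤ L)
    {t : G} (ht : t ∈ T) (ht1 : t * z 1 * t⁻¹ = z 2)
    (htk : ∀ k : Fin 5, k ≠ 1 → k ≠ 2 → t * z k * t⁻¹ = z k)
    (hY : ∀ y ∈ Y, ∀ k : Fin 5, k ≠ 1 → k ≠ 2 → y * z k = z k * y) :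
    W ⊓ centralizer (T : Set G) ≤ centralizer (Y : Set G) := by
  have hle : W ≤ o2 M₀ ⊓ centralizer (o2 M₀ : Set G) := by
    rw [hW]
    exact iSup_le fun m => h.cj_le m.2
  have hCM : centralizer (closure (Set.range z) : Set G) ≤ M₀ := by
    intro c hc
    apply h.LM
    refine ⟨CL hc, mem_centralizer_singleton_iff.2 ?_⟩
    exact (mem_centralizer_iff.1 hc _ (h.z_mem 0)).symm
  have ho2Q : o2 M₀ ≤ Q := by
    refine le_trans ?_ (o2_le_syl hQ)
    exact le_o2 (isPGroup_o2 _) h.o2_cent (hCM.trans (le_normalizer_o2 M₀))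
  rintro w ⟨hw, hwT⟩
  have hwV : w ∈ closure (Set.range z) := by
    refine hZ w (ho2Q (hle hw).1) ((h.wab hW).1 w hw) fun q hq => ?_
    exact mem_centralizer_iff.1 hwT q (QT hq)
  -- `w ∈ ⟨z 0, z 3, z 4⟩` or `z 1 * w ∈ ⟨z 0, z 3, z 4⟩`
  set U : Subgroup G := closure ({z 0, z 3, z 4} : Set G) with hU
  have h0U : z 0 ∈ U := subset_closure (by simp)
  have h3U : z 3 ∈ U := subset_closure (by simp)
  have h4U : z 4 ∈ U := subset_closure (by simp)
  have hUV : U ≤ closure (Set.range z) := by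
    rw [hU, closure_le]
    rintro x (rfl | rfl | rfl)
    · exact h.z_mem 0
    · exact h.z_mem 3
    · exact h.z_mem 4
  have hVc : ∀ v ∈ closure (Set.range z), ∀ w ∈ closure (Set.range z), v * w = w * v := fun v hv w hw =>
    mem_centralizer_iff.1 (h.V_cent hw) v (h.V_le_o2 hv)
  have hdich : w ∈ U ∨ z 1 * w ∈ U := by
    let U2 : Subgroup G :=
      { carrier := {x | x ∈ closure (Set.range z) ∧ (x ∈ U ∨ z 1 * x ∈ U)}
        one_mem' := ⟨one_mem _, Or.inl (one_mem _)⟩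
        mul_mem' := by
          rintro a b ⟨ha, ha'⟩ ⟨hb, hb'⟩
          refine ⟨mul_mem ha hb, ?_⟩
          rcases ha' with ha' | ha' <;> rcases hb' with hb' | hb'
          · exact Or.inl (mul_mem ha' hb')
          · right
            have : z 1 * (a * b) = a * (z 1 * b) := by
              rw [← mul_assoc, hVc (z 1) (h.z_mem 1) a ha, mul_assoc]
            rw [this]
            exact mul_mem ha' hb'
          · right
            rw [← mul_assoc]
            exact mul_mem ha' hb'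
          · left
            have : a * b = (z 1 * a) * (z 1 * b) := by
              calc a * b = (z 1 * z 1) * (a * b) := by rw [h.sq 1]; simp
                _ = z 1 * (z 1 * a) * b := by group
                _ = z 1 * (a * z 1) * b := by rw [hVc (z 1) (h.z_mem 1) a ha]
                _ = (z 1 * a) * (z 1 * b) := by group
            rw [this]
            exact mul_mem ha' hb'
        inv_mem' := by
          rintro a ⟨ha, ha'⟩
          refine ⟨inv_mem ha, ?_⟩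
          rcases ha' with ha' | ha'
          · exact Or.inl (inv_mem ha')
          · right
            have e : z 1 * a⁻¹ = (z 1 * a)⁻¹ := by
              rw [mul_inv_rev]
              have h1 : (z 1)⁻¹ = z 1 := inv_eq_of_mul_eq_one_left (h.sq 1)
              rw [h1]
              exact hVc (z 1) (h.z_mem 1) _ (inv_mem ha)
            rw [e]
            exact inv_mem ha' }
    have hVU : closure (Set.range z) ≤ U2 := by
      refine closure_le_of h.sq h.comm h.prod ⟨h.z_mem 0, Or.inl h0U⟩ ⟨h.z_mem 3, Or.inl h3U⟩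
        ⟨h.z_mem 4, Or.inl h4U⟩ (Or.inl ⟨h.z_mem 1, Or.inr ?_⟩)
      rw [h.sq 1]
      exact one_mem _
    exact (hVU hwV).2
  have hUt : ∀ u ∈ U, t * u * t⁻¹ = u := by
    intro u hu
    rw [hU] at hu
    refine closure_induction (p := fun u _ => t * u * t⁻¹ = u) ?_ (by simp) ?_ ?_ hu
    · rintro x (rfl | rfl | rfl)
      · exact htk 0 (by decide) (by decide)
      · exact htk 3 (by decide) (by decide)
      · exact htk 4 (by decide) (by decide)
    · intro a b _ _ h1 h2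
      calc t * (a * b) * t⁻¹ = (t * a * t⁻¹) * (t * b * t⁻¹) := by group
        _ = a * b := by rw [h1, h2]
    · intro a _ h1
      calc t * a⁻¹ * t⁻¹ = (t * a * t⁻¹)⁻¹ := by group
        _ = a⁻¹ := by rw [h1]
  have hUY : U ≤ centralizer (Y : Set G) := by
    rw [hU, closure_le]
    have hk : ∀ k : Fin 5, k ≠ 1 → k ≠ 2 → z k ∈ centralizer (Y : Set G) := fun k h1 h2 =>
      mem_centralizer_iff.2 fun y hy => hY y hy k h1 h2
    rintro x (rfl | rfl | rfl)
    · exact hk 0 (by decide) (by decide)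
    · exact hk 3 (by decide) (by decide)
    · exact hk 4 (by decide) (by decide)
  rcases hdich with h1 | h1
  · exact hUY h1
  · exfalso
    have h2 := hUt _ h1
    have h3 : t * w * t⁻¹ = w := by
      have h4 : t * w = w * t := mem_centralizer_iff.1 hwT t ht
      rw [h4]; group
    have h5 : z 2 * w = z 1 * w := by
      calc z 2 * w = (t * z 1 * t⁻¹) * (t * w * t⁻¹) := by rw [ht1, h3]
        _ = t * (z 1 * w) * t⁻¹ := by group
        _ = z 1 * w := h2
    have h6 : z 2 = z 1 := mul_right_cancel h5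
    exact absurd (h.inj h6) (by decide)

end WF

end Cfsg.Agent.Omega.NO3S.MFive
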