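import Cfsg.Agent.Omega.NO3S.MFive.Core

/-!
# THEOREM M5 (helper693 #24218): `⟨L, X_12⟩` is 2-local

* `Fr5.lever` : (3) an elementary abelian `F ≤ O` moving `N_04` with `[W_0, F] ≤ N_04`, or all `J_ab` are equal;
* `Fr5.gen` : (4) `Y_04 = K X_12`;
* `Fr5.local` : **THEOREM M5**.
-/

set_option autoImplicit false
set_option linter.unusedSectionVars false
set_option linter.unusedVariables false

namespace Cfsg.Agent.Omega.NO3S.MFive

open Subgroup Cfsg Cfsg.Agent.ZN Cfsg.Agent.ZN.ChoiceBase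
open Cfsg.Agent.ZN.ChoiceSit
open Cfsg.Agent.Omega.NO3S.EThree
open Cfsg.Agent.Omega.NO3S.EThree.ExactA (eab_mono eab_sup eab_iff)
open Cfsg.Agent.Omega.EK3.Rank (NoOn mem_inf_of_mem_AA jj_inf_le offd_of_mem exists_moving card_jj_of_cj)
open Cfsg.Agent.Omega.EK3.Lever (Dt relIndex_cj)
open Cfsg.Agent.Omega.ESym.CoreS (mem_norm_of_le jj_norm jj_ne_bot)
open scoped commutatorElement

universe u

variable {G : Type u} [Group G] [Finite G] {L T : Subgroup G} {z : Fin 5 → G}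

section main

variable (h : Fr5 L T z)
include h

theorem Fr5.swap' : ∃ g, ∃ σ, Ind L z g σ ∧ cj g (X z 1 2) = X z 1 2 ∧ cj g (o2 (X z 1 2)) = o2 (X z 1 2) ∧
    cj g (N L z 0 4) = N L z 0 3 ∧ cj g (N L z 0 3) = N L z 0 4 ∧ cj g (Y L z 0 4) = Y L z 0 3 ∧
    cj g (Y L z 0 3) = Y L z 0 4 ∧ cj g (W L z 0) = W L z 0 := by
  obtain ⟨g, σ, hg, h0, h1, h2, h3, h4⟩ := h.swap
  have hX : cj g (X z 1 2) = X z 1 2 := by rw [hg.X_eq, h1, h2]
  refine ⟨g, σ, hg, hX, ?_, ?_, ?_, ?_, ?_, ?_⟩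
  · rw [← o2_cj, hX]
  · rw [hg.N_eq, h0, h4]
  · rw [hg.N_eq, h0, h3]
  · rw [hg.Y_eq, h0, h4]
  · rw [hg.Y_eq, h0, h3]
  · rw [hg.W_eq, h0]

theorem Fr5.no03 : NoOn (o2 (X z 1 2)) (N L z 0 3) := by
  obtain ⟨g, σ, hg, hX, hO, h43, h34, -, -, -⟩ := h.swap'
  intro A hA hAO
  have h1 := h.no (cj g A) (isElementaryAbelian_cj g hA) (by
    have := cj_mono g hAO
    rwa [hO] at this)
  rw [← h34, ← cj_centralizer, ← cj_centralizer, relIndex_cj, relIndex_cj] at h1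
  exact h1

theorem Fr5.o2_Y03 : o2 (Y L z 0 3) = o2 (X z 1 2) ⊓ centralizer (N L z 0 3 : Set G) := by
  obtain ⟨g, σ, hg, hX, hO, h43, h34, y43, y34, -⟩ := h.swap'
  have h1 := congrArg (cj g) h.o2_Y04
  rwa [← o2_cj, y43, cj_inf, cj_centralizer, h43, hO] at h1

theorem Fr5.N04_le_O : N L z 0 4 ≤ o2 (X z 1 2) := h.N04_le_W.trans h.W_le_O

theorem Fr5.N03_le_O : N L z 0 3 ≤ o2 (X z 1 2) := h.N03_le_W.trans h.W_le_O

theorem Fr5.O_le_Y04 : o2 (X z 1 2) ≤ Y L z 0 4 := (ChoiceSit.o2_le _).trans h.X_le_Y04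

theorem Fr5.O_le_Y03 : o2 (X z 1 2) ≤ Y L z 0 3 := (ChoiceSit.o2_le _).trans h.X_le_Y03

theorem Fr5.dt : Dt (o2 (X z 1 2)) (W L z 0) (Zc z 1 2) (fun b : Bool => cond b (Y L z 0 3) (Y L z 0 4))
    (fun b : Bool => cond b (N L z 0 3) (N L z 0 4)) where
  ab := h.W_abel
  OY := by
    rintro (_ | _)
    · exact h.O_le_Y04
    · exact h.O_le_Y03
  YE := by
    rintro (_ | _)
    · exact (Y_le_M_left 0 4).trans (M_norm_W 0)
    · exact (Y_le_M_left 0 3).trans (M_norm_W 0)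
  OZ := (ChoiceSit.o2_le _).trans h.X_cent_Zc
  gen := by
    have hM : M L z 0 ≤ ⨆ b : Bool, cond b (Y L z 0 3) (Y L z 0 4) := by
      refine h.M_le.trans (sup_le ?_ ?_)
      · exact le_iSup (fun b : Bool => cond b (Y L z 0 3) (Y L z 0 4)) true
      · exact le_iSup (fun b : Bool => cond b (Y L z 0 3) (Y L z 0 4)) false
    have h1 : W L z 0 ≤ nc (M L z 0) (Zc z 1 2) := nc_le h.V_le_nc (nc_norm _ _)
    exact h1.trans (nc_mono hM le_rfl)
  NE := by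
    rintro (_ | _)
    · exact h.N04_le_W
    · exact h.N03_le_W
  YN := by
    rintro (_ | _)
    · exact Y_norm_N 0 4
    · exact Y_norm_N 0 3
  YQ := by
    rintro (_ | _)
    · have := ChoiceSit.le_normalizer_o2 (Y L z 0 4)
      rw [h.o2_Y04] at this
      exact this
    · have := ChoiceSit.le_normalizer_o2 (Y L z 0 3)
      rw [h.o2_Y03] at this
      exact this
  no := by
    rintro (_ | _) F hF hFO
    · exact h.no F hF hFO
    · exact h.no03 F hF hFO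

/-- (3) -/
theorem Fr5.lever (hJ : jj (o2 (Y L z 0 3)) ≠ jj (o2 (Y L z 0 4))) :
    ∃ F : Subgroup G, F ≤ o2 (X z 1 2) ∧ ¬ F ≤ centralizer (N L z 0 4 : Set G) ∧
      ∀ e ∈ W L z 0, ∀ f ∈ F, ⁅e, f⁆ ∈ N L z 0 4 := by
  obtain ⟨g, σ, hg, hX, hO, h43, h34, y43, y34, hW⟩ := h.swap'
  rw [h.o2_Y03, h.o2_Y04] at hJ
  obtain ⟨A, -, hA, hAm⟩ := exists_moving h.eab03 h.N03_le_O h.no03 h.eab04 h.N04_le_O h.no
    (card_jj_of_cj g hO h34) hJ
  have hAn : A ≤ normalizer (W L z 0 : Set G) :=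
    hA.2.1.trans (h.O_le_Y04.trans ((Y_le_M_left 0 4).trans (M_norm_W 0)))
  have hoff := offd_of_mem h.wab h.W_le_O hA hAn h.N04_le_W hAm
  obtain ⟨i, F, hFO, hFe, hFm, hF⟩ := h.dt.lever hA.2.1 hA.1 hoff
  cases i
  · exact ⟨F, hFO, hFm, hF⟩
  · refine ⟨cj g F, ?_, ?_, ?_⟩
    · have := cj_mono g hFO
      rwa [hO] at this
    · intro hc
      apply hFm
      change F ≤ centralizer (N L z 0 3 : Set G)
      rw [← h34, ← cj_centralizer] at hc
      have h1 := cj_mono g⁻¹ hc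
      rwa [cj_inv_cj, cj_inv_cj] at h1
    · rintro e he _ ⟨f, hf, rfl⟩
      rw [← hW] at he
      obtain ⟨e, he, rfl⟩ := he
      have h1 : ⁅e, f⁆ ∈ N L z 0 3 := hF e he f hf
      rw [← h34]
      refine ⟨_, h1, ?_⟩
      exact map_commutatorElement _ _ _

/-- `Y_04 ≤ R` if `X_12 ≤ R` and `C_L(z_0, z_4) ≤ R`. -/
theorem Fr5.Y_le_of {R : Subgroup G} (hX : X z 1 2 ≤ R) (hL : L ⊓ centralizer {z 0, z 4} ≤ R) : Y L z 0 4 ≤ R := by
  refine sup_le hL (iSup_le fun k => iSup_le fun l => iSup_le fun hh => ?_)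
  obtain ⟨τ, t0, t4, t1, t2⟩ := perm_four (a := 0) (b := 4) (c := 1) (d := 2) (a' := 0) (b' := 4) (c' := k)
    (d' := l) (by decide) (by decide) (by decide) (by decide) (by decide) (by decide) (by decide) hh.2.1.1.symm
    hh.2.1.2.symm hh.2.2.1.symm hh.2.2.2.symm hh.1
  obtain ⟨y, hy⟩ := h.ind τ
  have h1 : y ∈ R := hL (hy.mem_cl t0 t4)
  have h2 := hy.X_eq 1 2
  rw [t1, t2] at h2
  rw [← h2]
  have h4 := cj_mono y hX
  rwa [cj_eq_of_mem_normalizer (Subgroup.le_normalizer h1)] at h4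

/-- an element of `C_L(z_0, z_4)` with its permutation -/
theorem Fr5.ind_cl {g : G} (hg : g ∈ L ⊓ centralizer {z 0, z 4}) : ∃ σ, Ind L z g σ ∧ σ 0 = 0 ∧ σ 4 = 4 := by
  obtain ⟨h1, h2, h3⟩ := mem_cl_iff.1 hg
  obtain ⟨σ, hσ⟩ := h.ind_of h1
  exact ⟨σ, hσ, h.fix hσ h2, h.fix hσ h3⟩

/-- if `K ∩ Λ` is not trivial on the letters, it is transitive on `{1, 2, 3}`: `Λ ≤ K X_12` -/
theorem Fr5.gen_one {K : Subgroup G} (hYK : Y L z 0 4 ≤ normalizer (K : Set G))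
    (hK : ¬ K ⊓ (L ⊓ centralizer {z 0, z 4}) ≤ X z 1 2 ⊓ centralizer (Set.range z)) : Y L z 0 4 ≤ K ⊔ X z 1 2 := by
  set Λ : Subgroup G := L ⊓ centralizer {z 0, z 4} with hΛ
  rw [SetLike.not_le_iff_exists] at hK
  obtain ⟨k, hk, hkX⟩ := hK
  obtain ⟨hkK, hkL⟩ := mem_inf.1 hk
  obtain ⟨σ, hσ, s0, s4⟩ := h.ind_cl hkL
  -- some letter `a` is moved
  obtain ⟨a, ha⟩ : ∃ a, σ a ≠ a := by
    by_contra hcon
    push Not at hcon
    apply hkX
    have h1 : k ∈ centralizer (Set.range z) := by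
      rw [mem_centralizer_iff]
      rintro _ ⟨c, rfl⟩
      exact hσ.comm_of (hcon c)
    exact mem_inf.2 ⟨h.C_le_X 1 2 h1, h1⟩
  have ha0 : a ≠ 0 := by
    rintro rfl
    exact ha s0
  have ha4 : a ≠ 4 := by
    rintro rfl
    exact ha s4
  have hs0 : σ a ≠ 0 := fun e => ha0 (σ.injective (e.trans s0.symm))
  have hs4 : σ a ≠ 4 := fun e => ha4 (σ.injective (e.trans s4.symm))
  refine h.Y_le_of le_sup_right fun g hg => ?_
  obtain ⟨τ, hτ, t0, t4⟩ := h.ind_cl hg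
  by_cases h3 : τ 3 = 3
  · refine mem_sup_right (mem_X12 h ?_ ?_ ?_)
    · exact hτ.comm_of t0
    · exact hτ.comm_of h3
    · exact hτ.comm_of t4
  have h30 : τ 3 ≠ 0 := fun e => by
    have := τ.injective (e.trans t0.symm)
    exact absurd this (by decide)
  have h34 : τ 3 ≠ 4 := fun e => by
    have := τ.injective (e.trans t4.symm)
    exact absurd this (by decide)
  -- `ρ a = τ 3`, `ρ (σ a) = 3`
  obtain ⟨ρ, r0, r4, ra, rs⟩ := perm_four (a := 0) (b := 4) (c := a) (d := σ a) (a' := 0) (b' := 4) (c' := τ 3)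
    (d' := 3) (by decide) ha0.symm ha4.symm hs0.symm hs4.symm (fun e => ha e.symm) (by decide) h30.symm h34.symm
    (by decide) (by decide) h3
  obtain ⟨y, hy⟩ := h.ind ρ
  have hyY : y ∈ Y L z 0 4 := cl_le_Y 0 4 (hy.mem_cl r0 r4)
  have hk' : y * k * y⁻¹ ∈ K := (mem_normalizer_iff.1 (hYK hyY) k).1 hkK
  have hI := ((hy.mul hσ).mul hy.inv).mul hτ
  have h1 : y * k * y⁻¹ * g ∈ X z 1 2 := by
    refine mem_X12 h (hI.comm_of ?_) (hI.comm_of ?_) (hI.comm_of ?_)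
    · have e1 : ρ⁻¹ 0 = 0 := by rw [Equiv.Perm.inv_eq_iff_eq]; exact r0.symm
      rw [Equiv.Perm.mul_apply, Equiv.Perm.mul_apply, Equiv.Perm.mul_apply, t0, e1, s0, r0]
    · have e1 : ρ⁻¹ (τ 3) = a := by rw [Equiv.Perm.inv_eq_iff_eq]; exact ra.symm
      rw [Equiv.Perm.mul_apply, Equiv.Perm.mul_apply, Equiv.Perm.mul_apply, e1, rs]
    · have e1 : ρ⁻¹ 4 = 4 := by rw [Equiv.Perm.inv_eq_iff_eq]; exact r4.symm
      rw [Equiv.Perm.mul_apply, Equiv.Perm.mul_apply, Equiv.Perm.mul_apply, t4, e1, s4, r4]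
  have h2 := mul_mem (mem_sup_left (inv_mem hk') : (y * k * y⁻¹)⁻¹ ∈ K ⊔ X z 1 2) (mem_sup_right h1)
  rwa [inv_mul_cancel_left] at h2

/-- (4) **`Y_04 = K X_12`** -/
theorem Fr5.gen {K : Subgroup G} (hKY : K ≤ Y L z 0 4) (hYK : Y L z 0 4 ≤ normalizer (K : Set G))
    {F : Subgroup G} (hFK : F ≤ K) (hFX : F ≤ X z 1 2) (hFm : ¬ F ≤ centralizer (N L z 0 4 : Set G)) :
    Y L z 0 4 ≤ K ⊔ X z 1 2 := by
  by_cases hK : K ⊓ (L ⊓ centralizer {z 0, z 4}) ≤ X z 1 2 ⊓ centralizer (Set.range z)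
  swap
  · exact h.gen_one hYK hK
  exfalso
  set Λ : Subgroup G := L ⊓ centralizer {z 0, z 4} with hΛ
  have hΛY : Λ ≤ Y L z 0 4 := cl_le_Y 0 4
  have hTΛ : T ≤ Λ := by
    intro t ht
    exact mem_cl_iff.2 ⟨h.TL ht, mem_X_iff.1 (h.TX ht) 0 (by decide) (by decide),
      mem_X_iff.1 (h.TX ht) 4 (by decide) (by decide)⟩
  -- Frattini
  have hsK : Syl (T ⊓ K) K := SQ1.FFOne.syl_inf h.syl hKY fun y hy k hk =>
    (mem_normalizer_iff.1 (hYK hy) k).1 hk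
  have hsKL : Syl (T ⊓ K) (K ⊓ Λ) :=
    ⟨le_inf inf_le_right (inf_le_left.trans hTΛ), hsK.2.1, fun Q h1 h2 h3 => hsK.2.2 Q (h1.trans inf_le_left) h2 h3⟩
  have hΛKL : ∀ g ∈ Λ, cj g (K ⊓ Λ) = K ⊓ Λ := by
    intro g hg
    rw [cj_inf, cj_eq_of_mem_normalizer (hYK (hΛY hg)), cj_eq_of_mem_normalizer (Subgroup.le_normalizer hg)]
  have hfrat : Λ ≤ (K ⊓ Λ) ⊔ (Λ ⊓ normalizer ((T ⊓ K : Subgroup G) : Set G)) := by
    intro g hg
    have h1 : Syl (cj g (T ⊓ K)) (K ⊓ Λ) := by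
      refine ⟨?_, ?_, fun Q h1 h2 h3 => ?_⟩
      · have := cj_mono g hsKL.1
        rwa [hΛKL g hg] at this
      · exact hsKL.2.1.map _
      · have h4 := hsKL.2.2 (cj g⁻¹ Q) (by
          have := cj_mono g⁻¹ h1
          rwa [hΛKL g⁻¹ (inv_mem hg)] at this) (h2.map _) (by
          have := cj_mono g⁻¹ h3
          rwa [cj_inv_cj] at this)
        rw [← h4, cj_cj_inv]
    obtain ⟨x, hx, e⟩ := syl_conj h1 hsKL
    rw [cj_cj] at e
    have h2 : x * g ∈ Λ ⊓ normalizer ((T ⊓ K : Subgroup G) : Set G) :=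
      mem_inf.2 ⟨mul_mem (mem_inf.1 hx).2 hg, mem_normalizer_iff_cj.2 e⟩
    have h3 := mul_mem (mem_sup_left (inv_mem hx) : x⁻¹ ∈ (K ⊓ Λ) ⊔ (Λ ⊓ normalizer ((T ⊓ K : Subgroup G) : Set G)))
      (mem_sup_right h2)
    rwa [inv_mul_cancel_left] at h3
  set Lj : Subgroup G := Λ ⊓ normalizer ((T ⊓ K : Subgroup G) : Set G) with hLj
  have hYD : Y L z 0 4 ≤ X z 1 2 ⊔ Lj := by
    refine h.Y_le_of le_sup_left (hfrat.trans (sup_le ?_ le_sup_right))
    exact (hK.trans inf_le_left).trans le_sup_left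
  have hDY : X z 1 2 ⊔ Lj ≤ Y L z 0 4 := sup_le h.X_le_Y04 (inf_le_left.trans hΛY)
  have hWT : N L z 0 4 ≤ T := by
    refine (ChoiceSit.le_o2 (h.W_two.to_le h.N04_le_W) ?_ (Y_norm_N 0 4)).trans (ChoiceSit.o2_le_syl h.syl)
    exact h.N04_le_O.trans h.O_le_Y04
  have hz3 : z 3 ∈ N L z 0 4 ⊓ centralizer (X z 1 2 : Set G) := by
    refine mem_inf.2 ⟨z_mem_N (by decide) (by decide), mem_centralizer_iff.2 fun x hx => ?_⟩
    exact (mem_X_iff.1 hx 3 (by decide) (by decide)).symm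
  have hmv : ∃ y ∈ X z 1 2 ⊔ Lj, ¬ F ≤ centralizer (cj y (N L z 0 4 ⊓ centralizer (X z 1 2 : Set G)) : Set G) := by
    by_contra hcon
    push Not at hcon
    apply hFm
    rw [Subgroup.le_centralizer_iff]
    refine h.N04_le.trans (iSup_le fun y => ?_)
    have h1 := hcon y (hYD y.2)
    rw [Subgroup.le_centralizer_iff] at h1
    exact (cj_mono (y : G) (zpowers_le.2 hz3)).trans h1
  obtain ⟨y, hy, hFy⟩ := hmv
  refine EDel.QP.moves_of (B := T) (D := X z 1 2) (L := Lj) (W := N L z 0 4) (K := K)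
    (Z := N L z 0 4 ⊓ centralizer (X z 1 2 : Set G)) h.sylX ?_ hWT ?_ ?_ ?_ inf_le_left ?_ ?_ ?_ ?_
    (le_inf hFK hFX) hy hFy inf_le_right
  · rw [Subgroup.le_centralizer_iff]
    exact inf_le_right
  · intro x hx y hy
    exact (mem_centralizer_iff.1 ((eab_iff.1 h.eab04).1 hy) x hx)
  · intro x hx
    have := (eab_iff.1 h.eab04).2 x hx
    rwa [pow_two] at this
  · exact hDY.trans (Y_norm_N 0 4)
  · exact le_inf inf_le_left ((inf_le_inf_right _ h.N04_le_W).trans h.cw)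
  · exact hKY.trans hYD
  · exact hDY.trans hYK
  · intro x hx
    obtain ⟨h1, h2⟩ := mem_inf.1 hx
    exact h.Y04_cent (hKY h1) (mem_centralizer_iff.1 h2 _ hz3)

/-- (5) `M_0` normalises `N_03 N_04`: `W_0 ≤ N_03 N_04`. -/
theorem Fr5.W_le (hJ : jj (o2 (Y L z 0 3)) ≠ jj (o2 (Y L z 0 4))) : W L z 0 ≤ N L z 0 3 ⊔ N L z 0 4 := by
  obtain ⟨F, hFO, hFm, hF⟩ := h.lever hJ
  have hYE : Y L z 0 4 ≤ normalizer (W L z 0 : Set G) := (Y_le_M_left 0 4).trans (M_norm_W 0)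
  -- the normal closure of `F` in `Y_04`
  let K : Subgroup G := nc (Y L z 0 4) F
  have hFY : F ≤ Y L z 0 4 := hFO.trans h.O_le_Y04
  have hKY : K ≤ Y L z 0 4 := nc_le hFY Subgroup.le_normalizer
  have hYK : Y L z 0 4 ≤ normalizer (K : Set G) := nc_norm _ _
  have hKN : K ≤ normalizer ((N L z 0 3 ⊔ N L z 0 4 : Subgroup G) : Set G) := by
    refine iSup_le fun y => ?_
    intro x hx
    refine mem_norm_of_le ?_
    rw [cj, Subgroup.map_sup]
    have hxY : x ∈ Y L z 0 4 := hKY (cj_le_nc y.2 hx)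
    refine sup_le ?_ ?_
    · rintro _ ⟨n, hn, rfl⟩
      change x * n * x⁻¹ ∈ _
      obtain ⟨f, hf, e⟩ := hx
      have e' : x = (y : G) * f * (y : G)⁻¹ := by rw [← e]; rfl
      have hnE : n ∈ W L z 0 := h.N03_le_W hn
      have hn' : (y : G)⁻¹ * n * y ∈ W L z 0 := by
        have := (mem_normalizer_iff.1 (hYE (inv_mem y.2)) n).1 hnE
        rwa [inv_inv] at this
      have h1 := hF _ hn' f hf
      have h2 : (y : G) * ⁅(y : G)⁻¹ * n * y, f⁆ * (y : G)⁻¹ ∈ N L z 0 4 :=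
        (mem_normalizer_iff.1 (Y_norm_N 0 4 y.2) _).1 h1
      have h3 : ⁅n, x⁆ = (y : G) * ⁅(y : G)⁻¹ * n * y, f⁆ * (y : G)⁻¹ := by
        rw [e']
        simp only [commutatorElement_def]
        group
      have h4 : x * n * x⁻¹ = ⁅n, x⁆⁻¹ * n := by
        simp only [commutatorElement_def]
        group
      rw [h4]
      exact mul_mem (inv_mem (mem_sup_right (by rw [h3]; exact h2))) (mem_sup_left hn)
    · have h1 := cj_eq_of_mem_normalizer (Y_norm_N 0 4 hxY)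
      exact (le_of_eq h1).trans le_sup_right
  have hXN : X z 1 2 ≤ normalizer ((N L z 0 3 ⊔ N L z 0 4 : Subgroup G) : Set G) := fun x hx =>
    norm_sup (Y_norm_N 0 3 (h.X_le_Y03 hx)) (Y_norm_N 0 4 (h.X_le_Y04 hx))
  have h04 : Y L z 0 4 ≤ normalizer ((N L z 0 3 ⊔ N L z 0 4 : Subgroup G) : Set G) :=
    (h.gen hKY hYK (le_nc _ _) (hFO.trans (ChoiceSit.o2_le _)) hFm).trans (sup_le hKN hXN)
  have h03 : Y L z 0 3 ≤ normalizer ((N L z 0 3 ⊔ N L z 0 4 : Subgroup G) : Set G) := by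
    obtain ⟨g, σ, hg, hX, hO, h43, h34, y43, y34, hW⟩ := h.swap'
    have h1 := cj_mono g h04
    have e : cj g (N L z 0 3 ⊔ N L z 0 4) = N L z 0 3 ⊔ N L z 0 4 := by
      have : cj g (N L z 0 3 ⊔ N L z 0 4) = cj g (N L z 0 3) ⊔ cj g (N L z 0 4) := Subgroup.map_sup _ _ _
      rw [this, h34, h43, sup_comm]
    rwa [y43, cj_normalizer, e] at h1
  refine nc_le ((closure_le _).2 ?_) (h.M_le.trans (sup_le h03 h04))
  have hz : ∀ c, c ≠ 0 → z c ∈ N L z 0 3 ⊔ N L z 0 4 := by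
    intro c h0
    by_cases h4 : c = 4
    · rw [h4]
      exact mem_sup_left (z_mem_N (by decide) (by decide))
    · exact mem_sup_right (z_mem_N h0 h4)
  rintro _ ⟨c, rfl⟩
  by_cases h0 : c = 0
  · rw [h0, h.prod]
    exact mul_mem (mul_mem (mul_mem (hz 1 (by decide)) (hz 2 (by decide))) (hz 3 (by decide))) (hz 4 (by decide))
  · exact hz c h0

/-- `W_a ≤ W_b W_c` -/
theorem Fr5.W_le_W (hJ : jj (o2 (Y L z 0 3)) ≠ jj (o2 (Y L z 0 4))) {a b c : Fin 5} (hab : a ≠ b) (hac : a ≠ c)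
    (hbc : b ≠ c) : W L z a ≤ W L z b ⊔ W L z c := by
  have h1 : W L z 0 ≤ W L z 3 ⊔ W L z 4 :=
    (h.W_le hJ).trans (sup_le_sup (N_le_W_right 0 3) (N_le_W_right 0 4))
  obtain ⟨τ, t0, t3, t4⟩ := perm_three (a := 0) (b := 3) (c := 4) (a' := a) (b' := b) (c' := c) (by decide)
    (by decide) (by decide) hab hac hbc
  obtain ⟨g, hg⟩ := h.ind τ
  have h2 := cj_mono g h1
  have e : cj g (W L z 3 ⊔ W L z 4) = cj g (W L z 3) ⊔ cj g (W L z 4) := Subgroup.map_sup _ _ _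
  rwa [e, hg.W_eq, hg.W_eq, hg.W_eq, t0, t3, t4] at h2

theorem Fr5.Wa_ab (a : Fin 5) : IsElementaryAbelian 2 (W L z a) := by
  obtain ⟨τ, t1, -⟩ := perm_step 1 0 a
  obtain ⟨g, hg⟩ := h.ind τ
  have h1 := isElementaryAbelian_cj g h.wab
  rwa [hg.W_eq, t1] at h1

/-- `W_a ≤ O_2(C_G(V))` -/
theorem Fr5.Wa_le (a : Fin 5) : W L z a ≤ o2 (centralizer (Set.range z)) := by
  have hab := eab_iff.1 (h.Wa_ab a)
  refine ChoiceSit.le_o2 ?_ ?_ ?_
  · intro x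
    refine ⟨1, Subtype.ext ?_⟩
    have := hab.2 x x.2
    simpa using this
  · intro x hx
    rw [mem_centralizer_iff]
    rintro _ ⟨k, rfl⟩
    exact mem_centralizer_iff.1 (hab.1 hx) _ (V_le_W a (z_mem_V k))
  · refine (le_trans ?_ (cl_le_M a)).trans (M_norm_W a)
    refine le_inf h.cv (centralizer_le ?_)
    rintro _ rfl
    exact ⟨a, rfl⟩

/-- **THEOREM M5**: `⟨L, X_12⟩` normalises a nontrivial 2-group. -/
theorem Fr5.local : ∃ R : Subgroup G, R ≠ ⊥ ∧ IsPGroup 2 R ∧ L ≤ normalizer (R : Set G) ∧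
    X z 1 2 ≤ normalizer (R : Set G) := by
  by_cases hJ : jj (o2 (Y L z 0 3)) = jj (o2 (Y L z 0 4))
  · -- all `J_ab` are equal
    have hJ' : ∀ a b c : Fin 5, a ≠ b → a ≠ c → jj (o2 (Y L z a b)) = jj (o2 (Y L z a c)) := by
      intro a b c hab hac
      by_cases hbc : b = c
      · rw [hbc]
      obtain ⟨τ, t0, t3, t4⟩ := perm_three (a := 0) (b := 3) (c := 4) (a' := a) (b' := b) (c' := c) (by decide)
        (by decide) (by decide) hab hac hbc
      obtain ⟨g, hg⟩ := h.ind τ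
      have h1 := congrArg (cj g) hJ
      rwa [← jj_cj, ← jj_cj, ← o2_cj, ← o2_cj, hg.Y_eq, hg.Y_eq, t0, t3, t4] at h1
    have hJ'' : ∀ a b : Fin 5, a ≠ b → jj (o2 (Y L z a b)) = jj (o2 (Y L z 0 3)) := by
      intro a b hab
      by_cases h0 : a = 0
      · rw [h0]
        exact hJ' 0 b 3 (fun e => hab (h0.trans e)) (by decide)
      · rw [hJ' a b 0 hab h0, Y_comm]
        exact hJ' 0 a 3 (fun e => h0 e.symm) (by decide)
    refine ⟨jj (o2 (Y L z 0 3)), ?_, (ChoiceSit.isPGroup_o2 _).to_le (ChoiceBase.jj_le _), ?_, ?_⟩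
    · refine jj_ne_bot (ChoiceSit.isPGroup_o2 _) ?_
      intro e
      have h1 : N L z 0 3 ≤ o2 (Y L z 0 3) := by
        rw [h.o2_Y03]
        exact le_inf h.N03_le_O (eab_iff.1 h.eab03).1
      rw [e] at h1
      have h2 := h1 (z_mem_N (c := 4) (by decide) (by decide))
      exact h.z_ne 4 (mem_bot.1 h2)
    · intro g hg
      obtain ⟨σ, hσ⟩ := h.ind_of hg
      rw [mem_normalizer_iff_cj, ← jj_cj, ← o2_cj, hσ.Y_eq]
      exact hJ'' _ _ fun e => absurd (σ.injective e) (by decide)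
    · exact (h.X_le_Y03.trans (ChoiceSit.le_normalizer_o2 _)).trans (jj_norm _)
  · refine ⟨⨆ a, W L z a, ?_, ?_, ?_, ?_⟩
    · intro e
      have h1 : z 0 ∈ ⨆ a, W L z a := (le_iSup (W L z) 0) (V_le_W 0 (z_mem_V 0))
      rw [e] at h1
      exact h.z_ne 0 (mem_bot.1 h1)
    · exact (ChoiceSit.isPGroup_o2 (centralizer (Set.range z))).to_le (iSup_le h.Wa_le)
    · intro g hg
      obtain ⟨σ, hσ⟩ := h.ind_of hg
      refine mem_norm_of_le ?_
      rw [cj, Subgroup.map_iSup]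
      refine iSup_le fun a => ?_
      have := hσ.W_eq a
      rw [cj] at this
      rw [this]
      exact le_iSup (W L z) (σ a)
    · have e : ⨆ a, W L z a = W L z 0 ⊔ W L z 3 ⊔ W L z 4 := by
        apply le_antisymm
        · refine iSup_le fun a => ?_
          by_cases h3 : a = 3
          · rw [h3]
            exact le_sup_right.trans le_sup_left
          by_cases h4 : a = 4
          · rw [h4]
            exact le_sup_right
          refine (h.W_le_W hJ h3 h4 (by decide)).trans (sup_le ?_ le_sup_right)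
          exact le_sup_right.trans le_sup_left
        · exact sup_le (sup_le (le_iSup (W L z) 0) (le_iSup (W L z) 3)) (le_iSup (W L z) 4)
      rw [e]
      intro x hx
      exact norm_sup (norm_sup (M_norm_W 0 (X_le_Mij (by decide) (by decide) (by decide) hx))
        (M_norm_W 3 (X_le_Mij (by decide) (by decide) (by decide) hx)))
        (M_norm_W 4 (X_le_Mij (by decide) (by decide) (by decide) hx))

end main

end Cfsg.Agent.Omega.NO3S.MFive
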