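import Cfsg.Agent.Omega.NO3S.MFive.Lev

/-!
# LightL, `n = 5`, CASE I of M5 (helper736 #25382, #25547 (P1)): the element `r`

* `Fr5.exists_three` : `Lev L z` gives `Three L z`: some `r ∈ L` inducing `(1 2 3)` on the letters satisfies
  `[W_0 … W_4, r] ≤ N_04`.
-/

set_option autoImplicit false
set_option linter.unusedSectionVars false
set_option linter.unusedVariables false

namespace Cfsg.Agent.Omega.NO3S.MFive

open Subgroup Cfsg Cfsg.Agent.ZN Cfsg.Agent.ZN.ChoiceBase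
open Cfsg.Agent.ZN.ChoiceSit
open Cfsg.Agent.Omega.NO3S.EThree
open Cfsg.Agent.Omega.NO3S.EThree.ExactA (eab_mono eab_sup eab_iff)
open scoped commutatorElement

universe u

section pure

variable {G : Type u} [Group G]

theorem three_mem_sup {A B : Subgroup G} (h : A ≤ normalizer (B : Set G)) {x : G} (hx : x ∈ A ⊔ B) :
    ∃ a ∈ A, a⁻¹ * x ∈ B := by
  rw [Subgroup.sup_eq_closure] at hx
  induction hx using closure_induction with
  | mem x hx =>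
    rcases hx with hx | hx
    · exact ⟨x, hx, by rw [inv_mul_cancel]; exact one_mem _⟩
    · exact ⟨1, one_mem _, by rwa [inv_one, one_mul]⟩
  | one => exact ⟨1, one_mem _, by simp⟩
  | mul x y _ _ h1 h2 =>
    obtain ⟨a, ha, hx⟩ := h1
    obtain ⟨b, hb, hy⟩ := h2
    refine ⟨a * b, mul_mem ha hb, ?_⟩
    have e : (a * b)⁻¹ * (x * y) = b⁻¹ * (a⁻¹ * x) * b⁻¹⁻¹ * (b⁻¹ * y) := by group
    rw [e]
    exact mul_mem ((mem_normalizer_iff.1 (h (inv_mem hb)) _).1 hx) hy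
  | inv x _ h1 =>
    obtain ⟨a, ha, hx⟩ := h1
    refine ⟨a⁻¹, inv_mem ha, ?_⟩
    have e : a⁻¹⁻¹ * x⁻¹ = a * (a⁻¹ * x)⁻¹ * a⁻¹ := by group
    rw [e]
    exact (mem_normalizer_iff.1 (h ha) _).1 (inv_mem hx)

/-- powers modulo `B` -/
theorem three_pow_mem {A B : Subgroup G} (h : A ≤ normalizer (B : Set G)) {a x : G} (ha : a ∈ A) (hx : a⁻¹ * x ∈ B)
    (n : ℕ) : (a ^ n)⁻¹ * x ^ n ∈ B := by
  induction n with
  | zero => simp
  | succ n ih =>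
    have e : (a ^ (n + 1))⁻¹ * x ^ (n + 1) = a⁻¹ * ((a ^ n)⁻¹ * x ^ n) * a⁻¹⁻¹ * (a⁻¹ * x) := by
      rw [pow_succ, pow_succ]
      group
    rw [e]
    exact mul_mem ((mem_normalizer_iff.1 (h (inv_mem ha)) _).1 ih) hx

/-- if `R = T (K ∩ R)` with a 2-group `T`, some `x ^ (2 ^ n)` lies in `K` -/
theorem three_exists_pow {T N : Subgroup G} (h : T ≤ normalizer (N : Set G)) (hT : IsPGroup 2 T) {x : G}
    (hx : x ∈ T ⊔ N) : ∃ n : ℕ, x ^ 2 ^ n ∈ N := by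
  obtain ⟨a, ha, hax⟩ := three_mem_sup h hx
  obtain ⟨n, hn⟩ := hT ⟨a, ha⟩
  refine ⟨n, ?_⟩
  have h1 := three_pow_mem h ha hax (2 ^ n)
  have h2 : a ^ 2 ^ n = 1 := by simpa using congrArg Subtype.val hn
  rwa [h2, inv_one, one_mul] at h1

/-- `[E, K] ≤ N` for the normal closure `K` of `F` -/
theorem three_comm_nc {H E N F : Subgroup G} (hE : H ≤ normalizer (E : Set G)) (hN : H ≤ normalizer (N : Set G))
    (hFH : F ≤ H) (hF : ∀ e ∈ E, ∀ f ∈ F, ⁅e, f⁆ ∈ N) : ∀ e ∈ E, ∀ x ∈ nc H F, ⁅e, x⁆ ∈ N := by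
  have key : ∀ x ∈ nc H F, x ∈ H ∧ ∀ e ∈ E, ⁅e, x⁆ ∈ N := by
    intro x hx
    rw [nc, Subgroup.iSup_eq_closure] at hx
    induction hx using closure_induction with
    | mem x hx =>
      obtain ⟨y, hy⟩ := Set.mem_iUnion.1 hx
      obtain ⟨f, hf, e⟩ := hy
      have e' : x = (y : G) * f * (y : G)⁻¹ := by rw [← e]; rfl
      refine ⟨by rw [e']; exact mul_mem (mul_mem y.2 (hFH hf)) (inv_mem y.2), fun n hn => ?_⟩
      have hn' : (y : G)⁻¹ * n * y ∈ E := by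
        have := (mem_normalizer_iff.1 (hE (inv_mem y.2)) n).1 hn
        rwa [inv_inv] at this
      have h1 := hF _ hn' f hf
      have h2 : (y : G) * ⁅(y : G)⁻¹ * n * y, f⁆ * (y : G)⁻¹ ∈ N := (mem_normalizer_iff.1 (hN y.2) _).1 h1
      have h3 : ⁅n, x⁆ = (y : G) * ⁅(y : G)⁻¹ * n * y, f⁆ * (y : G)⁻¹ := by
        rw [e']
        simp only [commutatorElement_def]
        group
      rwa [h3]
    | one => exact ⟨one_mem _, fun e _ => by simp⟩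
    | mul x y _ _ h1 h2 =>
      refine ⟨mul_mem h1.1 h2.1, fun e he => ?_⟩
      have e1 : ⁅e, x * y⁆ = ⁅e, x⁆ * (x * ⁅e, y⁆ * x⁻¹) := by
        simp only [commutatorElement_def]
        group
      rw [e1]
      exact mul_mem (h1.2 e he) ((mem_normalizer_iff.1 (hN h1.1) _).1 (h2.2 e he))
    | inv x _ h1 =>
      refine ⟨inv_mem h1.1, fun e he => ?_⟩
      have e1 : ⁅e, x⁻¹⁆ = x⁻¹ * ⁅e, x⁆⁻¹ * x⁻¹⁻¹ := by
        simp only [commutatorElement_def]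
        group
      rw [e1]
      exact (mem_normalizer_iff.1 (hN (inv_mem h1.1)) _).1 (inv_mem (h1.2 e he))
  exact fun e he x hx => (key x hx).2 e he

theorem Ind.pow {L : Subgroup G} {z : Fin 5 → G} {g : G} {σ : Equiv.Perm (Fin 5)} (h : Ind L z g σ) (n : ℕ) :
    Ind L z (g ^ n) (σ ^ n) := by
  induction n with
  | zero => simpa using Ind.one
  | succ n ih =>
    rw [pow_succ, pow_succ]
    exact ih.mul h

end pure

/-- the three-cycle -/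
theorem perm_three_pow {σ : Equiv.Perm (Fin 5)} (h0 : σ 0 = 0) (h4 : σ 4 = 4) (h1 : σ 1 = 2) (h2 : σ 2 = 3)
    (h3 : σ 3 = 1) (n : ℕ) : σ ^ 4 ^ n = σ := by
  have hc : σ ^ 3 = 1 := by
    ext a
    have e : (σ ^ 3) a = σ (σ (σ a)) := by
      simp [pow_succ]
    rw [e]
    fin_cases a <;> simp [h0, h4, h1, h2, h3]
  induction n with
  | zero => simp
  | succ n ih =>
    rw [pow_succ, pow_mul, ih]
    have e : σ ^ 4 = σ ^ 3 * σ := by rw [← pow_succ]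
    rw [e, hc, one_mul]

variable {G : Type u} [Group G] [Finite G] {L T : Subgroup G} {z : Fin 5 → G}

theorem three_Zc_comm (a b : Fin 5) : Zc z a b = Zc z b a := by
  unfold Zc
  congr 1
  ext g
  constructor
  · rintro ⟨c, h1, h2, h3⟩
    exact ⟨c, h2, h1, h3⟩
  · rintro ⟨c, h1, h2, h3⟩
    exact ⟨c, h2, h1, h3⟩

theorem three_N_comm (a b : Fin 5) : N L z a b = N L z b a := by
  rw [N, N, Y_comm, three_Zc_comm]

section main

variable (h : Fr5 L T z)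
include h

/-- `K` normal in `Y_04` with `F ≤ K ∩ O_2(X_12)` moving `N_04`: `K ∩ R` moves `z_3` -/
theorem Fr5.inf_moves {K R : Subgroup G} (hKY : K ≤ Y L z 0 4) (hYK : Y L z 0 4 ≤ normalizer (K : Set G))
    {F : Subgroup G} (hFK : F ≤ K) (hFX : F ≤ X z 1 2) (hFm : ¬ F ≤ centralizer (N L z 0 4 : Set G))
    (hTR : T ≤ R) (hRL : R ≤ L ⊓ centralizer {z 0, z 4}) (hRX : ¬ R ≤ X z 1 2)
    (hmin : ∀ R' : Subgroup G, T ≤ R' → R' ≤ R → ¬ R' ≤ X z 1 2 → R ≤ R') : ¬ K ⊓ R ≤ X z 1 2 := by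
  intro hKR
  set Λ : Subgroup G := L ⊓ centralizer {z 0, z 4} with hΛ
  have hΛY : Λ ≤ Y L z 0 4 := cl_le_Y 0 4
  have hRY : R ≤ Y L z 0 4 := hRL.trans hΛY
  -- Frattini
  have hsK : Syl (T ⊓ K) K := SQ1.FFOne.syl_inf h.syl hKY fun y hy k hk =>
    (mem_normalizer_iff.1 (hYK hy) k).1 hk
  have hsKL : Syl (T ⊓ K) (K ⊓ R) :=
    ⟨le_inf inf_le_right (inf_le_left.trans hTR), hsK.2.1, fun Q h1 h2 h3 => hsK.2.2 Q (h1.trans inf_le_left) h2 h3⟩
  have hRKR : ∀ g ∈ R, cj g (K ⊓ R) = K ⊓ R := by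
    intro g hg
    rw [cj_inf, cj_eq_of_mem_normalizer (hYK (hRY hg)), cj_eq_of_mem_normalizer (Subgroup.le_normalizer hg)]
  have hfrat : R ≤ (K ⊓ R) ⊔ (R ⊓ normalizer ((T ⊓ K : Subgroup G) : Set G)) := by
    intro g hg
    have h1 : Syl (cj g (T ⊓ K)) (K ⊓ R) := by
      refine ⟨?_, ?_, fun Q h1 h2 h3 => ?_⟩
      · have := cj_mono g hsKL.1
        rwa [hRKR g hg] at this
      · exact hsKL.2.1.map _
      · have h4 := hsKL.2.2 (cj g⁻¹ Q) (by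
          have := cj_mono g⁻¹ h1
          rwa [hRKR g⁻¹ (inv_mem hg)] at this) (h2.map _) (by
          have := cj_mono g⁻¹ h3
          rwa [cj_inv_cj] at this)
        rw [← h4, cj_cj_inv]
    obtain ⟨x, hx, e⟩ := syl_conj h1 hsKL
    rw [cj_cj] at e
    have h2 : x * g ∈ R ⊓ normalizer ((T ⊓ K : Subgroup G) : Set G) :=
      mem_inf.2 ⟨mul_mem (mem_inf.1 hx).2 hg, mem_normalizer_iff_cj.2 e⟩
    have h3 := mul_mem (mem_sup_left (inv_mem hx) : x⁻¹ ∈ (K ⊓ R) ⊔ (R ⊓ normalizer ((T ⊓ K : Subgroup G) : Set G)))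
      (mem_sup_right h2)
    rwa [inv_mul_cancel_left] at h3
  -- `R` normalises `T ∩ K`
  have hRN : R ≤ normalizer ((T ⊓ K : Subgroup G) : Set G) := by
    have h1 : T ≤ R ⊓ normalizer ((T ⊓ K : Subgroup G) : Set G) := by
      refine le_inf hTR fun t ht => ?_
      rw [mem_normalizer_iff_cj, cj_inf, cj_eq_of_mem_normalizer (Subgroup.le_normalizer ht),
        cj_eq_of_mem_normalizer (hYK (h.TY ht))]
    by_cases h2 : R ⊓ normalizer ((T ⊓ K : Subgroup G) : Set G) ≤ X z 1 2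
    · exact absurd (hfrat.trans (sup_le hKR h2)) hRX
    · exact (hmin _ h1 inf_le_left h2).trans inf_le_right
  -- `Y_04 = ⟨X_12, R⟩`
  have hΛR : Λ ≤ X z 1 2 ⊔ R := by
    rw [SetLike.not_le_iff_exists] at hRX
    obtain ⟨ρ, hρR, hρX⟩ := hRX
    obtain ⟨τ, hτ, t0, t4⟩ := h.ind_cl (hRL hρR)
    have t3 : τ 3 ≠ 3 := by
      intro e
      exact hρX (mem_X12 h (hτ.comm_of t0) (hτ.comm_of e) (hτ.comm_of t4))
    have t30 : τ 3 ≠ 0 := fun e => absurd (τ.injective (e.trans t0.symm)) (by decide)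
    have t34 : τ 3 ≠ 4 := fun e => absurd (τ.injective (e.trans t4.symm)) (by decide)
    intro g hg
    obtain ⟨σ, hσ, s0, s4⟩ := h.ind_cl hg
    by_cases s3 : σ 3 = 3
    · exact mem_sup_left (mem_X12 h (hσ.comm_of s0) (hσ.comm_of s3) (hσ.comm_of s4))
    have s30 : σ 3 ≠ 0 := fun e => absurd (σ.injective (e.trans s0.symm)) (by decide)
    have s34 : σ 3 ≠ 4 := fun e => absurd (σ.injective (e.trans s4.symm)) (by decide)
    -- `x ∈ X_12` maps `τ 3` to `σ 3`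
    obtain ⟨x, μ, hx, m0, m4, m3, mm⟩ : ∃ x μ, Ind L z x μ ∧ μ 0 = 0 ∧ μ 4 = 4 ∧ μ 3 = 3 ∧ μ (τ 3) = σ 3 := by
      obtain ⟨μ, m0, m4, m3, mm⟩ := perm_four (a := 0) (b := 4) (c := 3) (d := τ 3) (a' := 0) (b' := 4) (c' := 3)
        (d' := σ 3) (by decide) (by decide) (by decide) t30.symm t34.symm (fun e => t3 e.symm) (by decide)
        (by decide) (by decide) s30.symm s34.symm (fun e => s3 e.symm)
      obtain ⟨x, hx⟩ := h.ind μ
      exact ⟨x, μ, hx, m0, m4, m3, mm⟩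
    have hxX : x ∈ X z 1 2 := mem_X12 h (hx.comm_of m0) (hx.comm_of m3) (hx.comm_of m4)
    have hI := (hx.mul hτ).inv.mul hσ
    have h1 : (x * ρ)⁻¹ * g ∈ X z 1 2 := by
      refine mem_X12 h (hI.comm_of ?_) (hI.comm_of ?_) (hI.comm_of ?_)
      · rw [Equiv.Perm.mul_apply, Equiv.Perm.inv_eq_iff_eq, Equiv.Perm.mul_apply, s0, t0, m0]
      · rw [Equiv.Perm.mul_apply, Equiv.Perm.inv_eq_iff_eq, Equiv.Perm.mul_apply, mm]
      · rw [Equiv.Perm.mul_apply, Equiv.Perm.inv_eq_iff_eq, Equiv.Perm.mul_apply, s4, t4, m4]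
    have h2 : x * ρ ∈ X z 1 2 ⊔ R := mul_mem (mem_sup_left hxX) (mem_sup_right hρR)
    have h3 := mul_mem h2 (mem_sup_left h1 : (x * ρ)⁻¹ * g ∈ X z 1 2 ⊔ R)
    rwa [mul_inv_cancel_left] at h3
  have hYD : Y L z 0 4 ≤ X z 1 2 ⊔ R := h.Y_le_of le_sup_left hΛR
  have hDY : X z 1 2 ⊔ R ≤ Y L z 0 4 := sup_le h.X_le_Y04 hRY
  have hWT : N L z 0 4 ≤ T := by
    refine (ChoiceSit.le_o2 (h.W_two.to_le h.N04_le_W) ?_ (Y_norm_N 0 4)).trans (ChoiceSit.o2_le_syl h.syl)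
    exact h.N04_le_O.trans h.O_le_Y04
  have hz3 : z 3 ∈ N L z 0 4 ⊓ centralizer (X z 1 2 : Set G) := by
    refine mem_inf.2 ⟨z_mem_N (by decide) (by decide), mem_centralizer_iff.2 fun x hx => ?_⟩
    exact (mem_X_iff.1 hx 3 (by decide) (by decide)).symm
  have hmv : ∃ y ∈ X z 1 2 ⊔ R, ¬ F ≤ centralizer (cj y (N L z 0 4 ⊓ centralizer (X z 1 2 : Set G)) : Set G) := by
    by_contra hcon
    push Not at hcon
    apply hFm
    rw [Subgroup.le_centralizer_iff]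
    refine h.N04_le.trans (iSup_le fun y => ?_)
    have h1 := hcon y (hYD y.2)
    rw [Subgroup.le_centralizer_iff] at h1
    exact (cj_mono (y : G) (zpowers_le.2 hz3)).trans h1
  obtain ⟨y, hy, hFy⟩ := hmv
  refine EDel.QP.moves_of (B := T) (D := X z 1 2) (L := R) (W := N L z 0 4) (K := K)
    (Z := N L z 0 4 ⊓ centralizer (X z 1 2 : Set G)) h.sylX ?_ hWT ?_ ?_ ?_ inf_le_left ?_ ?_ ?_ ?_
    (le_inf hFK hFX) hy hFy hRN
  · rw [Subgroup.le_centralizer_iff]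
    exact inf_le_right
  · intro x hx y hy
    exact (mem_centralizer_iff.1 ((eab_iff.1 h.eab04).1 hy) x hx)
  · intro x hx
    have := (eab_iff.1 h.eab04).2 x hx
    rwa [pow_two] at this
  · exact hDY.trans (Y_norm_N 0 4)
  · exact le_inf inf_le_left ((inf_le_inf_right _ h.N04_le_W).trans h.cw)
  · exact hKY.trans hYD
  · exact hDY.trans hYK
  · intro x hx
    obtain ⟨h1, h2⟩ := mem_inf.1 hx
    exact h.Y04_cent (hKY h1) (mem_centralizer_iff.1 h2 _ hz3)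

theorem Fr5.T_le : T ≤ L ⊓ centralizer {z 0, z 4} := by
  intro t ht
  exact mem_cl_iff.2 ⟨h.TL ht, mem_X_iff.1 (h.TX ht) 0 (by decide) (by decide),
    mem_X_iff.1 (h.TX ht) 4 (by decide) (by decide)⟩

/-- some power `x ^ (2 ^ n)` of every `x ∈ R` lies in `K` -/
theorem Fr5.exists_pow {K R : Subgroup G} (hKY : K ≤ Y L z 0 4) (hYK : Y L z 0 4 ≤ normalizer (K : Set G))
    {F : Subgroup G} (hFK : F ≤ K) (hFX : F ≤ X z 1 2) (hFm : ¬ F ≤ centralizer (N L z 0 4 : Set G))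
    (hTR : T ≤ R) (hRL : R ≤ L ⊓ centralizer {z 0, z 4}) (hRX : ¬ R ≤ X z 1 2)
    (hmin : ∀ R' : Subgroup G, T ≤ R' → R' ≤ R → ¬ R' ≤ X z 1 2 → R ≤ R') {x : G} (hx : x ∈ R) :
    ∃ n : ℕ, x ^ 2 ^ n ∈ K := by
  have h1 := h.inf_moves hKY hYK hFK hFX hFm hTR hRL hRX hmin
  have h2 : R ≤ T ⊔ (K ⊓ R) := hmin _ le_sup_left (sup_le hTR inf_le_right) fun h2 => h1 (le_sup_right.trans h2)
  have hTn : T ≤ normalizer ((K ⊓ R : Subgroup G) : Set G) := by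
    intro t ht
    rw [mem_normalizer_iff_cj, cj_inf, cj_eq_of_mem_normalizer (hYK (h.TY ht)),
      cj_eq_of_mem_normalizer (Subgroup.le_normalizer (hTR ht))]
  obtain ⟨n, hn⟩ := three_exists_pow hTn h.syl.2.1 (h2 hx)
  exact ⟨n, (mem_inf.1 hn).1⟩

/-- `T` contains an element over `(1 2)` -/
theorem Fr5.exists_t : ∃ t ∈ T, ∃ σ, Ind L z t σ ∧ σ 0 = 0 ∧ σ 3 = 3 ∧ σ 4 = 4 ∧ σ 1 = 2 ∧ σ 2 = 1 := by
  obtain ⟨g, hg⟩ := h.ind (Equiv.swap 1 2)
  obtain ⟨k, m, hm, he⟩ := Nat.exists_eq_two_pow_mul_odd (orderOf_pos g).ne'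
  have hpw : (Equiv.swap (1 : Fin 5) 2) ^ m = Equiv.swap 1 2 := by
    obtain ⟨j, rfl⟩ := hm
    rw [pow_succ, pow_mul, pow_two, Equiv.swap_mul_self, one_pow, one_mul]
  have hgm : Ind L z (g ^ m) (Equiv.swap 1 2) := by
    have := hg.pow m
    rwa [hpw] at this
  have hmX : g ^ m ∈ X z 1 2 :=
    mem_X12 h (hgm.comm_of (by decide)) (hgm.comm_of (by decide)) (hgm.comm_of (by decide))
  have h2 : IsPGroup 2 (zpowers (g ^ m)) := by
    rintro ⟨y, hy⟩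
    obtain ⟨i, rfl⟩ := mem_zpowers_iff.1 hy
    refine ⟨k, Subtype.ext ?_⟩
    change ((g ^ m) ^ i) ^ 2 ^ k = 1
    rw [← zpow_natCast ((g ^ m) ^ i), zpow_comm, zpow_natCast, ← pow_mul, mul_comm m, ← he, pow_orderOf_eq_one,
      one_zpow]
  have hsA : Syl T (X z 1 2 ⊓ L) :=
    ⟨le_inf h.TX h.TL, h.syl.2.1, fun Q h1 h2 h3 => h.sylX.2.2 Q (h1.trans inf_le_left) h2 h3⟩
  obtain ⟨Q, hQ, hmQ⟩ := exists_syl h2 (zpowers_le.2 (mem_inf.2 ⟨hmX, hgm.mem⟩))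
  obtain ⟨x, hx, e⟩ := syl_conj hQ hsA
  have hxL : x ∈ L := (mem_inf.1 hx).2
  have htT : x * g ^ m * x⁻¹ ∈ T := by
    rw [← e]
    exact ⟨g ^ m, hmQ (mem_zpowers _), rfl⟩
  obtain ⟨τ, hτ⟩ := h.ind_of (h.TL htT)
  have t0 : τ 0 = 0 := h.fix hτ (mem_X_iff.1 (h.TX htT) 0 (by decide) (by decide))
  have t3 : τ 3 = 3 := h.fix hτ (mem_X_iff.1 (h.TX htT) 3 (by decide) (by decide))
  have t4 : τ 4 = 4 := h.fix hτ (mem_X_iff.1 (h.TX htT) 4 (by decide) (by decide))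
  have cases5 : ∀ a : Fin 5, a = 0 ∨ a = 1 ∨ a = 2 ∨ a = 3 ∨ a = 4 := by decide
  have hval : ∀ a : Fin 5, a ≠ 0 → a ≠ 3 → a ≠ 4 → τ a = 1 ∨ τ a = 2 := by
    intro a ha0 ha3 ha4
    rcases cases5 (τ a) with e | e | e | e | e
    · exact absurd (τ.injective (e.trans t0.symm)) ha0
    · exact Or.inl e
    · exact Or.inr e
    · exact absurd (τ.injective (e.trans t3.symm)) ha3
    · exact absurd (τ.injective (e.trans t4.symm)) ha4
  have v1 := hval 1 (by decide) (by decide) (by decide)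
  have v2 := hval 2 (by decide) (by decide) (by decide)
  have n12 : τ 1 ≠ τ 2 := fun e => absurd (τ.injective e) (by decide)
  rcases v1 with e1 | e1
  · exfalso
    have e2 : τ 2 = 2 := by
      rcases v2 with e2 | e2
      · exact absurd (e1.trans e2.symm) n12
      · exact e2
    -- `t` fixes all letters
    have hall : ∀ a, τ a = a := by
      intro a
      rcases cases5 a with e | e | e | e | e <;> rw [e] <;> assumption
    have hfix : ∀ a, z a * (x * g ^ m * x⁻¹) = x * g ^ m * x⁻¹ * z a := fun a => hτ.comm_of (hall a)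
    obtain ⟨μ, hμ⟩ := h.ind_of hxL
    have h5 : z 1 * g ^ m = g ^ m * z 1 := by
      have h6 := hfix (μ 1)
      rw [← hμ.eq 1] at h6
      calc z 1 * g ^ m = x⁻¹ * (x * z 1 * x⁻¹ * (x * g ^ m * x⁻¹)) * x := by group
        _ = x⁻¹ * (x * g ^ m * x⁻¹ * (x * z 1 * x⁻¹)) * x := by rw [h6]
        _ = g ^ m * z 1 := by group
    have h7 := h.fix hgm h5
    exact absurd h7 (by decide)
  · have e2 : τ 2 = 1 := by
      rcases v2 with e2 | e2
      · exact e2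
      · exact absurd (e1.trans e2.symm) n12
    exact ⟨_, htT, τ, hτ, t0, t3, t4, e1, e2⟩

/-- an element of `R` over the three-cycle -/
theorem Fr5.exists_cycle {R : Subgroup G} (hTR : T ≤ R) (hRL : R ≤ L ⊓ centralizer {z 0, z 4})
    (hRX : ¬ R ≤ X z 1 2) : ∃ r ∈ R, ∃ σ, Ind L z r σ ∧ σ 0 = 0 ∧ σ 4 = 4 ∧ σ 1 = 2 ∧ σ 2 = 3 ∧ σ 3 = 1 := by
  obtain ⟨t, ht, τ, hτ, t0, t3, t4, t1, t2⟩ := h.exists_t
  have htR := hTR ht
  rw [SetLike.not_le_iff_exists] at hRX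
  obtain ⟨ρ, hρR, hρX⟩ := hRX
  obtain ⟨σ, hσ, s0, s4⟩ := h.ind_cl (hRL hρR)
  have s3 : σ 3 ≠ 3 := fun e => hρX (mem_X12 h (hσ.comm_of s0) (hσ.comm_of e) (hσ.comm_of s4))
  have hne : ∀ a b : Fin 5, a ≠ b → σ a ≠ σ b := fun a b hab e => hab (σ.injective e)
  have cases5 : ∀ a : Fin 5, a = 0 ∨ a = 1 ∨ a = 2 ∨ a = 3 ∨ a = 4 := by decide
  have hval : ∀ a : Fin 5, a ≠ 0 → a ≠ 4 → σ a = 1 ∨ σ a = 2 ∨ σ a = 3 := by
    intro a ha0 ha4
    rcases cases5 (σ a) with e | e | e | e | e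
    · exact absurd (σ.injective (e.trans s0.symm)) ha0
    · exact Or.inl e
    · exact Or.inr (Or.inl e)
    · exact Or.inr (Or.inr e)
    · exact absurd (σ.injective (e.trans s4.symm)) ha4
  have v1 := hval 1 (by decide) (by decide)
  have v2 := hval 2 (by decide) (by decide)
  have v3 := hval 3 (by decide) (by decide)
  have n12 := hne 1 2 (by decide)
  have n13 := hne 1 3 (by decide)
  have n23 := hne 2 3 (by decide)
  rcases v3 with e3 | e3 | e3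
  · -- `σ 3 = 1`
    rcases v1 with e1 | e1 | e1
    · exact absurd (e1.trans e3.symm) n13
    · have e2 : σ 2 = 3 := by
        rcases v2 with e2 | e2 | e2
        · exact absurd (e2.trans e3.symm) n23
        · exact absurd (e1.trans e2.symm) n12
        · exact e2
      exact ⟨ρ, hρR, σ, hσ, s0, s4, e1, e2, e3⟩
    · have e2 : σ 2 = 2 := by
        rcases v2 with e2 | e2 | e2
        · exact absurd (e2.trans e3.symm) n23
        · exact e2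
        · exact absurd (e1.trans e2.symm) n12
      refine ⟨ρ * t, mul_mem hρR htR, σ * τ, hσ.mul hτ, ?_, ?_, ?_, ?_, ?_⟩ <;>
        rw [Equiv.Perm.mul_apply] <;> simp only [t0, t1, t2, t3, t4, s0, s4, e1, e2, e3]
  · -- `σ 3 = 2`
    rcases v1 with e1 | e1 | e1
    · have e2 : σ 2 = 3 := by
        rcases v2 with e2 | e2 | e2
        · exact absurd (e1.trans e2.symm) n12
        · exact absurd (e2.trans e3.symm) n23
        · exact e2
      refine ⟨t * ρ, mul_mem htR hρR, τ * σ, hτ.mul hσ, ?_, ?_, ?_, ?_, ?_⟩ <;>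
        rw [Equiv.Perm.mul_apply] <;> simp only [t0, t1, t2, t3, t4, s0, s4, e1, e2, e3]
    · exact absurd (e1.trans e3.symm) n13
    · have e2 : σ 2 = 1 := by
        rcases v2 with e2 | e2 | e2
        · exact e2
        · exact absurd (e2.trans e3.symm) n23
        · exact absurd (e1.trans e2.symm) n12
      refine ⟨ρ * ρ, mul_mem hρR hρR, σ * σ, hσ.mul hσ, ?_, ?_, ?_, ?_, ?_⟩ <;>
        rw [Equiv.Perm.mul_apply] <;> simp only [s0, s4, e1, e2, e3]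
  · exact absurd e3 s3

/-- `⨆ W_a = W_0 W_4` -/
theorem Fr5.iSup_W_le (hL : Lev L z) : ⨆ a, W L z a ≤ W L z 0 ⊔ W L z 4 := by
  refine iSup_le fun a => ?_
  by_cases h0 : a = 0
  · rw [h0]
    exact le_sup_left
  by_cases h4 : a = 4
  · rw [h4]
    exact le_sup_right
  exact h.W_le_W' hL h0 h4 (by decide)

theorem Fr5.Wa_le_Y04 (a : Fin 5) : W L z a ≤ Y L z 0 4 :=
  ((h.Wa_le a).trans (ChoiceSit.o2_le _)).trans ((h.C_le_X 1 2).trans h.X_le_Y04)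

/-- **(P1)**, with the conclusion of `Fr5.lever` as hypothesis -/
theorem Fr5.exists_three_of (hLev : ∃ F : Subgroup G, F ≤ o2 (X z 1 2) ∧
      ¬ F ≤ centralizer (N L z 0 4 : Set G) ∧ ∀ e ∈ W L z 0, ∀ f ∈ F, ⁅e, f⁆ ∈ N L z 0 4)
    (hW : ⨆ a, W L z a ≤ W L z 0 ⊔ W L z 4) :
    ∃ r σ, Ind L z r σ ∧ σ 0 = 0 ∧ σ 4 = 4 ∧ σ 1 = 2 ∧ σ 2 = 3 ∧ σ 3 = 1 ∧
      ∀ v ∈ (⨆ a, W L z a), ⁅v, r⁆ ∈ N L z 0 4 := by
  obtain ⟨F, hFO, hFm, hF⟩ := hLev
  have hFX : F ≤ X z 1 2 := hFO.trans (ChoiceSit.o2_le _)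
  have hFY : F ≤ Y L z 0 4 := hFX.trans h.X_le_Y04
  have hYW0 : Y L z 0 4 ≤ normalizer (W L z 0 : Set G) := (Y_le_M_left 0 4).trans (M_norm_W 0)
  have hYN : Y L z 0 4 ≤ normalizer (N L z 0 4 : Set G) := Y_norm_N 0 4
  have c1 := three_comm_nc hYW0 hYN hFY hF
  -- `s` over `(0 4)`
  obtain ⟨s, hs⟩ := h.ind (Equiv.swap 0 4)
  have s0 : (Equiv.swap (0 : Fin 5) 4) 0 = 4 := by decide
  have s4 : (Equiv.swap (0 : Fin 5) 4) 4 = 0 := by decide
  have s1 : (Equiv.swap (0 : Fin 5) 4) 1 = 1 := by decide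
  have s2 : (Equiv.swap (0 : Fin 5) 4) 2 = 2 := by decide
  have eY : cj s (Y L z 0 4) = Y L z 0 4 := by rw [hs.Y_eq, s0, s4, Y_comm]
  have eN : cj s (N L z 0 4) = N L z 0 4 := by rw [hs.N_eq, s0, s4, three_N_comm]
  have eX : cj s (X z 1 2) = X z 1 2 := by rw [hs.X_eq, s1, s2]
  have eW : cj s (W L z 0) = W L z 4 := by rw [hs.W_eq, s0]
  have hFX' : cj s F ≤ X z 1 2 := eX ▸ cj_mono s hFX
  have hFY' : cj s F ≤ Y L z 0 4 := hFX'.trans h.X_le_Y04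
  have hFm' : ¬ cj s F ≤ centralizer (N L z 0 4 : Set G) := by
    intro hc
    rw [← eN, ← cj_centralizer] at hc
    have h1 := cj_mono s⁻¹ hc
    rw [cj_inv_cj, cj_inv_cj] at h1
    exact hFm h1
  have hYW4 : Y L z 0 4 ≤ normalizer (W L z 4 : Set G) := (Y_le_M_right 0 4).trans (M_norm_W 4)
  have hF' : ∀ e ∈ W L z 4, ∀ f ∈ cj s F, ⁅e, f⁆ ∈ N L z 0 4 := by
    rintro e he _ ⟨f, hf, rfl⟩
    rw [← eW] at he
    obtain ⟨e, he, rfl⟩ := he
    rw [← eN]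
    exact ⟨_, hF e he f hf, map_commutatorElement _ _ _⟩
  have c2 := three_comm_nc hYW4 hYN hFY' hF'
  -- the minimal `R`
  obtain ⟨R, ⟨hTR, hRL, hRX⟩, hmin⟩ := Set.Finite.exists_minimal
    (s := {R : Subgroup G | T ≤ R ∧ R ≤ L ⊓ centralizer {z 0, z 4} ∧ ¬ R ≤ X z 1 2}) (Set.toFinite _)
    ⟨L ⊓ centralizer {z 0, z 4}, h.T_le, le_rfl, by
      obtain ⟨τ, t0, t4, t3⟩ := perm_three (a := 0) (b := 4) (c := 3) (a' := 0) (b' := 4) (c' := 1) (by decide)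
        (by decide) (by decide) (by decide) (by decide) (by decide)
      obtain ⟨y, hy⟩ := h.ind τ
      intro hc
      have h1 := hc (hy.mem_cl t0 t4)
      have h2 := h.fix hy (mem_X_iff.1 h1 3 (by decide) (by decide))
      rw [t3] at h2
      exact absurd h2 (by decide)⟩
  have hmin' : ∀ R' : Subgroup G, T ≤ R' → R' ≤ R → ¬ R' ≤ X z 1 2 → R ≤ R' :=
    fun R' h1 h2 h3 => hmin ⟨h1, h2.trans hRL, h3⟩ h2
  obtain ⟨x, hxR, σ, hσ, e0, e4, e1, e2, e3⟩ := h.exists_cycle hTR hRL hRX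
  obtain ⟨n1, hn1⟩ := h.exists_pow (nc_le hFY Subgroup.le_normalizer) (nc_norm _ _) (le_nc _ _) hFX hFm hTR hRL hRX
    hmin' hxR
  obtain ⟨n2, hn2⟩ := h.exists_pow (nc_le hFY' Subgroup.le_normalizer) (nc_norm _ _) (le_nc _ _) hFX' hFm' hTR hRL
    hRX hmin' hxR
  have hdvd : ∀ n m : ℕ, n ≤ m → ∀ K : Subgroup G, x ^ 2 ^ n ∈ K → x ^ 4 ^ m ∈ K := by
    intro n m hnm K hK
    have h4 : (4 : ℕ) ^ m = 2 ^ n * 2 ^ (2 * m - n) := by
      rw [← pow_add, show (4 : ℕ) = 2 ^ 2 from rfl, ← pow_mul]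
      congr 1
      omega
    rw [h4, pow_mul]
    exact pow_mem hK _
  have k1 := hdvd n1 (n1 + n2) (Nat.le_add_right _ _) _ hn1
  have k2 := hdvd n2 (n1 + n2) (Nat.le_add_left _ _) _ hn2
  refine ⟨x ^ 4 ^ (n1 + n2), σ, ?_, e0, e4, e1, e2, e3, ?_⟩
  · have := hσ.pow (4 ^ (n1 + n2))
    rwa [perm_three_pow e0 e4 e1 e2 e3] at this
  · intro v hv
    have hv' := hW hv
    have hn : W L z 0 ≤ normalizer (W L z 4 : Set G) := (h.Wa_le_Y04 0).trans hYW4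
    obtain ⟨a, ha, hb⟩ := three_mem_sup hn hv'
    have e : v = a * (a⁻¹ * v) := by group
    rw [e]
    have e5 : ∀ a b r : G, ⁅a * b, r⁆ = a * ⁅b, r⁆ * a⁻¹ * ⁅a, r⁆ := by
      intro a b r
      simp only [commutatorElement_def]
      group
    rw [e5]
    refine mul_mem ((mem_normalizer_iff.1 (hYN (h.Wa_le_Y04 0 ha)) _).1 (c2 _ hb _ k2)) (c1 _ ha _ k1)

/-- **(P1)** -/
theorem Fr5.exists_three (hL : Lev L z) : Three L z :=
  h.exists_three_of hL (h.iSup_W_le hL)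

/-- (P1) from `J_03 ≠ J_04` -/
theorem Fr5.exists_three_J (hJ : jj (o2 (Y L z 0 3)) ≠ jj (o2 (Y L z 0 4))) : Three L z :=
  h.exists_three (h.lev_of_J hJ)

end main

end Cfsg.Agent.Omega.NO3S.MFive
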