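import Cfsg.Agent.Omega.NO3S.MFive.FailEnd
import Cfsg.Agent.Omega.NO3S.MFive.Three

/-!
# LightL (E), `n = 5`: FAIL, `EE ≠ ∅` (helper736 #25382 over M5 and helper155's `exists_three_of`)

* `Fr5.three_of_lev` : `Lev L z → Three L z`;
* `FailHyp.local_lev`, `FailHyp.local_off` : `⟨L, D⟩` normalises a nontrivial 2-group if `Lev L z` holds, resp. if some
  elementary abelian `A ≤ O_2(X_12)` offends on `W_0`.
-/

set_option autoImplicit false
set_option linter.unusedSectionVars false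
set_option linter.unusedVariables false

namespace Cfsg.Agent.Omega.NO3S.MFive

open Subgroup Cfsg Cfsg.Agent.ZN Cfsg.Agent.ZN.ChoiceBase
open Cfsg.Agent.ZN.ChoiceSit
open Cfsg.Agent.Omega.NO3S.EThree

universe u

variable {G : Type u} [Group G] [Finite G] {L T B : Subgroup G} {z : Fin 5 → G}

theorem Fr5.three_of_lev (h : Fr5 L T z) (hL : Lev L z) : Three L z := h.exists_three hL

/-- **FAIL, `Lev`.** -/
theorem FailHyp.local_lev (f : FailHyp L T B z) (hL : Lev L z) : ∃ R : Subgroup G, R ≠ ⊥ ∧ IsPGroup 2 R ∧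
    L ≤ normalizer (R : Set G) ∧ DD z ≤ normalizer (R : Set G) :=
  f.local_one hL (f.fr.three_of_lev hL)

/-- **FAIL, `EE ≠ ∅`.** -/
theorem FailHyp.local_off (f : FailHyp L T B z)
    (hE : ∃ A ≤ o2 (X z 1 2), IsElementaryAbelian 2 A ∧ Offd (W L z 0) A) : ∃ R : Subgroup G, R ≠ ⊥ ∧
    IsPGroup 2 R ∧ L ≤ normalizer (R : Set G) ∧ DD z ≤ normalizer (R : Set G) := by
  obtain ⟨A, hA, hAe, hoff⟩ := hE
  exact f.local_lev (f.fr.lev_of_offd hA hAe hoff)

end Cfsg.Agent.Omega.NO3S.MFive
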