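import Cfsg.Agent.Omega.NO3S.MFive.FailOne

/-!
# LightL (E), `n = 5`, CASE II + `J(O_2(D)) ≤ C(V)` + FAIL (helper237 #25850, no rank comparison)

`D = C(z_0 z_4, z_1 z_2)`, `O = O_2(D)`. If no elementary abelian subgroup of `O_2(X_12)` offends `W_0` (`¬ Lev L z`),
then `J(O)` centralises `W_3 ≤ O`, so `AA(Q_12)` centralises `W_0 ≥ N_04`; FAIL: `J(Q_12) = J(Q_04)`.

* `FailHyp.cent_W3` : `A ∈ AA(O)` centralises `W_3`;
* `FailHyp.AA_sub` : `AA(Q_12) ⊆ AA(O)`;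
* `FailHyp.local_two` : `⟨L, D⟩` normalises `J(Q_12) = J(Q_04) ≠ 1`;
* **`FailHyp.local_all`** : with `FailOne` (CASE I, helper736 #25382): FAIL is dead.
-/

set_option autoImplicit false
set_option linter.unusedSectionVars false
set_option linter.unusedVariables false

namespace Cfsg.Agent.Omega.NO3S.MFive

open Subgroup Cfsg Cfsg.Agent.ZN Cfsg.Agent.ZN.ChoiceBase
open Cfsg.Agent.ZN.ChoiceSit
open Cfsg.Agent.Omega.NO3S.EThree
open Cfsg.Agent.Omega.NO3S.EThree.ExactA (eab_mono eab_sup eab_iff swp)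
open Cfsg.Agent.Omega.EK3.Rank (NoOn le_of_mem)
open Cfsg.Agent.Omega.EK3.Lever (relIndex_cj)
open Cfsg.Agent.Omega.ESym.CoreS (mem_norm_of_le jj_ne_bot)
open Cfsg.Agent.Omega.NoFF.Basic (comm_symm)
open scoped commutatorElement

universe u

variable {G : Type u} [Group G] [Finite G] {L T B : Subgroup G} {z : Fin 5 → G}

section two

variable (f : FailHyp L T B z) (hL : ¬ Lev L z) (w3 : W L z 3 ≤ o2 (DD z))
include f

/-- `AA(Q_04) ⊆ AA(O)`, by FAIL -/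
theorem FailHyp.AA_sub04 {A : Subgroup G} (hA : A ∈ AA (o2 (CC z 0 4))) : A ∈ AA (o2 (DD z)) := by
  obtain ⟨A₀, hA₀⟩ := AA_nonempty (o2 (DD z))
  have e04 : IsElementaryAbelian 2 (N L z 0 4 : Subgroup G) := f.fr.eab04
  obtain ⟨-, -, hA1⟩ := swp e04 f.N04_le_O hA₀ (f.no04 hA₀)
  have hc : (A₀ ⊓ centralizer (N L z 0 4 : Set G)) ⊔ N L z 0 4 ≤ centralizer (N L z 0 4 : Set G) :=
    sup_le inf_le_right (eab_iff.1 e04).1
  have hQ := f.le_Q hA1.2.1 (f.fail _ hA1 hc)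
  rw [mem_AA_iff] at hA ⊢
  refine ⟨hA.1, hA.2.1.trans f.Q_le_O, ?_⟩
  rw [mm_eq hA1]
  exact (card_le_mm hA1.1 hQ).trans hA.2.2

theorem FailHyp.cj_Q12 {g : G} {σ : Equiv.Perm (Fin 5)} (hg : Ind L z g σ) (h0 : σ 0 = 1) (h1 : σ 1 = 0)
    (h4 : σ 4 = 2) (h2 : σ 2 = 4) : cj g (o2 (CC z 1 2)) = o2 (CC z 0 4) := by
  rw [← o2_cj, hg.CC_eq, h1, h2]

theorem FailHyp.AA_sub12 {A : Subgroup G} (hA : A ∈ AA (o2 (CC z 1 2))) : A ∈ AA (o2 (DD z)) := by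
  obtain ⟨g, σ, hg, h0, h1, h4, h2, h3⟩ := f.sw
  have h5 := cj_mem_AA g hA
  rw [f.cj_Q12 hg h0 h1 h4 h2] at h5
  have h6 := f.AA_sub04 h5
  have e : cj g⁻¹ (DD z) = DD z := by
    have := congrArg (cj g⁻¹) (f.DD_cj hg h0 h1 h4 h2)
    rw [cj_inv_cj] at this
    exact this.symm
  have h7 := f.AA_cj e h6
  rwa [cj_inv_cj] at h7

include hL w3

/-- `A ∈ AA(O)` centralises `W_3` -/
theorem FailHyp.cent_W3 {A : Subgroup G} (hA : A ∈ AA (o2 (DD z))) : A ≤ centralizer (W L z 3 : Set G) := by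
  by_contra hm
  -- `g ∈ L` over `(0 3)`
  obtain ⟨g, hg⟩ := f.fr.ind (Equiv.swap 0 3)
  have eW : cj g (W L z 3) = W L z 0 := by
    rw [hg.W_eq]
    congr 1
  have eX : cj g (X z 1 2) = X z 1 2 := by
    rw [hg.X_eq]
    congr 1
  have hAX := f.X12_o2 hA.2.1 (f.jV A hA)
  have hle := le_of_mem (f.fr.Wa_ab 3) w3 hA
  refine hL (f.fr.lev_of_offd (A := cj g A) ?_ (isElementaryAbelian_cj g hA.1) ⟨?_, ?_, ?_⟩)
  · have := cj_mono g hAX
    rwa [← o2_cj, eX] at this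
  · have h1 : cj g A ≤ X z 1 2 := by
      have := cj_mono g (hAX.trans (ChoiceSit.o2_le _))
      rwa [eX] at this
    exact h1.trans (f.fr.X_le_M.trans (M_norm_W 0))
  · intro hc
    apply hm
    rw [← eW, ← cj_centralizer] at hc
    have h1 := cj_mono g⁻¹ hc
    rwa [cj_inv_cj, cj_inv_cj] at h1
  · rw [← eW, ← cj_centralizer, ← cj_centralizer, relIndex_cj, relIndex_cj]
    exact hle

/-- `A ∈ AA(Q_12)` lies in `Q_04` -/
theorem FailHyp.le_Q04_of {A : Subgroup G} (hA : A ∈ AA (o2 (CC z 1 2))) : A ≤ o2 (CC z 0 4) := by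
  obtain ⟨g, hg⟩ := f.fr.ind (Equiv.swap 0 3)
  have eQ : cj g (o2 (CC z 1 2)) = o2 (CC z 1 2) := by
    rw [← o2_cj, hg.CC_eq]
    congr 1
  have eW : cj g (W L z 3) = W L z 0 := by
    rw [hg.W_eq]
    congr 1
  have eQ' : cj g⁻¹ (o2 (CC z 1 2)) = o2 (CC z 1 2) := by
    have := congrArg (cj g⁻¹) eQ
    rw [cj_inv_cj] at this
    exact this.symm
  have h1 := cj_mem_AA g⁻¹ hA
  rw [eQ'] at h1
  have h2 := cj_mono g (f.cent_W3 hL w3 (f.AA_sub12 h1))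
  rw [cj_cj_inv, cj_centralizer, eW] at h2
  exact f.le_Q (f.AA_sub12 hA).2.1 (f.fail A (f.AA_sub12 hA) (h2.trans (centralizer_le (N_le_W_left 0 4))))

/-- `J(Q_12) = J(Q_04)` -/
theorem FailHyp.jj_eq12 : jj (o2 (CC z 1 2)) = jj (o2 (CC z 0 4)) := by
  have h1 : jj (o2 (CC z 1 2)) ≤ jj (o2 (CC z 0 4)) := by
    rw [ChoiceBase.jj_eq]
    refine sSup_le fun A hA => le_jj ?_
    rw [mem_AA_iff]
    refine ⟨hA.1, f.le_Q04_of hL w3 hA, ?_⟩
    rw [← mm_eq (f.AA_sub12 hA)]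
    exact mm_mono f.Q_le_O
  obtain ⟨g, σ, hg, h0, h1', h4, h2, h3⟩ := f.sw
  refine Subgroup.eq_of_le_of_card_ge h1 ?_
  rw [← f.cj_Q12 hg h0 h1' h4 h2, jj_cj, card_cj]

/-- **CASE II + FAIL**: `⟨L, D⟩` normalises a nontrivial 2-group. -/
theorem FailHyp.local_two : ∃ R : Subgroup G, R ≠ ⊥ ∧ IsPGroup 2 R ∧ L ≤ normalizer (R : Set G) ∧
    DD z ≤ normalizer (R : Set G) := by
  have hn04 : CC z 0 4 ≤ normalizer (jj (o2 (CC z 0 4)) : Set G) :=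
    (ChoiceSit.le_normalizer_o2 _).trans (ESym.CoreS.jj_norm _)
  have hn12 : CC z 1 2 ≤ normalizer (jj (o2 (CC z 0 4)) : Set G) := by
    rw [← f.jj_eq12 hL w3]
    exact (ChoiceSit.le_normalizer_o2 _).trans (ESym.CoreS.jj_norm _)
  have hnorm : ∀ (g : G), cj g (CC z 0 4) = CC z 0 4 → g ∈ normalizer (jj (o2 (CC z 0 4)) : Set G) := by
    intro g hg
    rw [mem_normalizer_iff_cj, ← jj_cj, ← o2_cj, hg]
  have hnorm' : ∀ (g : G), cj g (CC z 1 2) = CC z 1 2 → g ∈ normalizer (jj (o2 (CC z 0 4)) : Set G) := by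
    intro g hg
    rw [← f.jj_eq12 hL w3, mem_normalizer_iff_cj, ← jj_cj, ← o2_cj, hg]
  have h04 : ∀ g σ, Ind L z g σ → (σ 0 = 0 ∧ σ 4 = 4) ∨ (σ 0 = 4 ∧ σ 4 = 0) →
      g ∈ normalizer (jj (o2 (CC z 0 4)) : Set G) := by
    intro g σ hg hσ
    refine hnorm g ?_
    rw [hg.CC_eq]
    rcases hσ with ⟨h1, h2⟩ | ⟨h1, h2⟩
    · rw [h1, h2]
    · rw [h1, h2, CC_comm f.fr.comm]
  have h12 : ∀ g σ, Ind L z g σ → (σ 1 = 1 ∧ σ 2 = 2) ∨ (σ 1 = 2 ∧ σ 2 = 1) →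
      g ∈ normalizer (jj (o2 (CC z 0 4)) : Set G) := by
    intro g σ hg hσ
    refine hnorm' g ?_
    rw [hg.CC_eq]
    rcases hσ with ⟨h1, h2⟩ | ⟨h1, h2⟩
    · rw [h1, h2]
    · rw [h1, h2, CC_comm f.fr.comm]
  refine ⟨jj (o2 (CC z 0 4)), ?_, (ChoiceSit.isPGroup_o2 _).to_le (ChoiceBase.jj_le _), ?_, ?_⟩
  · refine jj_ne_bot (ChoiceSit.isPGroup_o2 _) ?_
    intro e
    have h1 : N L z 0 4 ≤ o2 (CC z 0 4) := by
      have h2 := f.N_le
      refine h2.trans (sup_le ?_ f.NB_le_Q)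
      rw [zpowers_le]
      have h3 : zpowers (z 0 * z 4) ≤ o2 (CC z 0 4) := by
        refine ChoiceSit.le_o2 ((ChoiceSit.isPGroup_o2 (DD z)).to_le (by
          rw [zpowers_le]
          exact f.z04_mem)) ?_ ?_
        · rw [zpowers_le]
          exact mem_CC_self 0 4
        · refine le_trans ?_ (centralizer_le_normalizer _)
          rw [Subgroup.le_centralizer_iff, zpowers_le, mem_centralizer_iff]
          intro x hx
          exact (mem_centralizer_iff.1 hx _ rfl).symm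
      exact h3 (mem_zpowers _)
    rw [e] at h1
    exact f.fr.z_ne 3 (mem_bot.1 (h1 (z_mem_N (by decide) (by decide))))
  · intro g hg
    obtain ⟨σ, hσ⟩ := f.fr.ind_of hg
    refine perm_gen (P := fun σ => ∀ g, Ind L z g σ → g ∈ normalizer (jj (o2 (CC z 0 4)) : Set G))
      ?_ (fun σ h1 g h2 => h04 g σ h2 h1) (fun σ h1 g h2 => h12 g σ h2 h1) σ g hσ
    intro σ τ h1 h2 g hg
    obtain ⟨g₁, hg₁⟩ := f.fr.ind σ
    have h4 := hg₁.inv.mul hg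
    rw [inv_mul_cancel_left] at h4
    have h5 := mul_mem (h1 g₁ hg₁) (h2 _ h4)
    rwa [mul_inv_cancel_left] at h5
  · exact DD_le_left.trans hn04

end two

/-- **FAIL + `J(O) ≤ C(V)`**: `⟨L, D⟩` normalises a nontrivial 2-group. -/
theorem FailHyp.local_all (f : FailHyp L T B z) (w3 : W L z 3 ≤ o2 (DD z)) : ∃ R : Subgroup G, R ≠ ⊥ ∧
    IsPGroup 2 R ∧ L ≤ normalizer (R : Set G) ∧ DD z ≤ normalizer (R : Set G) := by
  by_cases hL : Lev L z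
  · exact f.local_lev hL
  · exact f.local_two hL w3

end Cfsg.Agent.Omega.NO3S.MFive
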