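import Cfsg.Agent.Omega.NO3S.MFive.Lev

/-!
# LightL (E), `n = 5`, CASE I + `J(O_2(D)) ≤ C(V)` + FAIL (helper736 #25382)

* `NN_le` : (1) `V+ = N_04 N_12`;
* `exists_mem` : (2) some member of `AA(O)` contains `V+`;
* `mem_iff` : (3) `Σ = {A ∈ AA(O) : A ≤ Q_04 ∩ Q_12} = {A ∈ AA(O) : [A, V+] = 1}`;
* `FailHyp.local_one` : (4) `⟨L, D⟩` normalises `⟨Σ⟩ ≠ 1`.
-/

set_option autoImplicit false
set_option linter.unusedSectionVars false
set_option linter.unusedVariables false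

namespace Cfsg.Agent.Omega.NO3S.MFive

open Subgroup Cfsg Cfsg.Agent.ZN Cfsg.Agent.ZN.ChoiceBase
open Cfsg.Agent.ZN.ChoiceSit
open Cfsg.Agent.Omega.NO3S.EThree
open Cfsg.Agent.Omega.NO3S.EThree.ExactA (eab_mono eab_sup eab_iff swp)
open Cfsg.Agent.Omega.EK3.Rank (NoOn)
open Cfsg.Agent.Omega.EK3.Lever (relIndex_cj)
open Cfsg.Agent.Omega.ESym.CoreS (mem_norm_of_le)
open Cfsg.Agent.Omega.NoFF.Basic (comm_symm)
open scoped commutatorElement

universe u

variable {G : Type u} [Group G]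

/-! ### Conjugation -/

section ind

variable {L : Subgroup G} {z : Fin 5 → G} {g : G} {σ : Equiv.Perm (Fin 5)}

theorem Ind.mul_eq (h : Ind L z g σ) (a b : Fin 5) : g * (z a * z b) * g⁻¹ = z (σ a) * z (σ b) := by
  rw [← h.eq, ← h.eq]
  group

theorem Ind.CC_le (h : Ind L z g σ) (a b : Fin 5) : cj g (CC z a b) ≤ CC z (σ a) (σ b) := by
  rintro _ ⟨x, hx, rfl⟩
  change g * x * g⁻¹ ∈ _
  rw [CC, mem_centralizer_iff]
  rintro _ rfl
  have h1 := mem_centralizer_iff.1 hx _ rfl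
  rw [← h.mul_eq]
  calc g * (z a * z b) * g⁻¹ * (g * x * g⁻¹) = g * (z a * z b * x) * g⁻¹ := by group
    _ = g * (x * (z a * z b)) * g⁻¹ := by rw [h1]
    _ = g * x * g⁻¹ * (g * (z a * z b) * g⁻¹) := by group

theorem Ind.CC_eq (h : Ind L z g σ) (a b : Fin 5) : cj g (CC z a b) = CC z (σ a) (σ b) :=
  eq_of_le (F := CC z) (fun g σ h => h.CC_le) h a b

theorem Ind.NB_eq (h : Ind L z g σ) (a b c d : Fin 5) : cj g (NB z a b c d) = NB z (σ a) (σ b) (σ c) (σ d) := by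
  rw [NB, cj_nc, h.CC_eq, NB]
  congr 1
  rw [cj, MonoidHom.map_zpowers]
  congr 1
  exact h.mul_eq c d

theorem CC_comm (hc : ∀ a b, z a * z b = z b * z a) (a b : Fin 5) : CC z a b = CC z b a := by
  rw [CC, hc, CC]

theorem NB_comm (hc : ∀ a b, z a * z b = z b * z a) (a b c d : Fin 5) : NB z a b c d = NB z b a d c := by
  rw [NB, CC_comm hc, hc c d, NB]

/-- the join of all `W_a` -/
theorem Ind.NN_eq (h : Ind L z g σ) : cj g (⨆ a, W L z a) = ⨆ a, W L z a := by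
  rw [cj, Subgroup.map_iSup]
  apply le_antisymm
  · refine iSup_le fun a => ?_
    have := h.W_eq a
    rw [cj] at this
    rw [this]
    exact le_iSup (W L z) (σ a)
  · refine iSup_le fun a => ?_
    have := h.W_eq (σ⁻¹ a)
    have e : σ (σ⁻¹ a) = a := by simp
    rw [cj, e] at this
    rw [← this]
    exact le_iSup (fun a => Subgroup.map (MulAut.conj g).toMonoidHom (W L z a)) (σ⁻¹ a)

end ind

section gen

variable {L : Subgroup G} {z : Fin 5 → G}

/-- a property of the permutations, closed under products, true for the permutations preserving `{0, 4}` or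
`{1, 2}`, holds for all permutations. -/
theorem perm_gen {P : Equiv.Perm (Fin 5) → Prop} (hm : ∀ σ τ, P σ → P τ → P (σ * τ))
    (h04 : ∀ σ : Equiv.Perm (Fin 5), (σ 0 = 0 ∧ σ 4 = 4) ∨ (σ 0 = 4 ∧ σ 4 = 0) → P σ)
    (h12 : ∀ σ : Equiv.Perm (Fin 5), (σ 1 = 1 ∧ σ 2 = 2) ∨ (σ 1 = 2 ∧ σ 2 = 1) → P σ)
    (σ : Equiv.Perm (Fin 5)) : P σ := by
  have hsw : ∀ i j : Fin 5, i ≠ j → P (Equiv.swap i j) := by
    have h3 : ∀ i : Fin 5, P (Equiv.swap i 3) := by
      intro i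
      fin_cases i
      · exact h12 _ (Or.inl ⟨by decide, by decide⟩)
      · exact h04 _ (Or.inl ⟨by decide, by decide⟩)
      · exact h04 _ (Or.inl ⟨by decide, by decide⟩)
      · exact h04 _ (Or.inl ⟨by decide, by decide⟩)
      · exact h12 _ (Or.inl ⟨by decide, by decide⟩)
    intro i j hij
    by_cases hi : i = 3
    · rw [hi, Equiv.swap_comm]
      exact h3 j
    by_cases hj : j = 3
    · rw [hj]
      exact h3 i
    have e : Equiv.swap i j = Equiv.swap i 3 * Equiv.swap j 3 * Equiv.swap i 3 := by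
      clear h3
      revert i j
      decide
    rw [e]
    exact hm _ _ (hm _ _ (h3 i) (h3 j)) (h3 i)
  refine Equiv.Perm.swap_induction_on σ (h04 1 (Or.inl ⟨rfl, rfl⟩)) fun f x y hxy hf => hm _ _ (hsw x y hxy) hf

end gen

/-! ### (1) `V+ = N_04 N_12` -/

section one

variable [Finite G] {L T B : Subgroup G} {z : Fin 5 → G}

theorem N_comm' (a b : Fin 5) : N L z a b = N L z b a := by
  have e : Zc z a b = Zc z b a := by
    rw [Zc, Zc]
    congr 1
    ext g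
    constructor
    · rintro ⟨c, h1, h2, h3⟩
      exact ⟨c, h2, h1, h3⟩
    · rintro ⟨c, h1, h2, h3⟩
      exact ⟨c, h2, h1, h3⟩
  rw [N, Y_comm, e, N]

variable (h : Fr5 L T z) (hL : Lev L z)
include h hL

theorem Fr5.W_le_N {a b c : Fin 5} (hab : a ≠ b) (hac : a ≠ c) (hbc : b ≠ c) :
    W L z a ≤ N L z a b ⊔ N L z a c := by
  obtain ⟨τ, t0, t3, t4⟩ := perm_three (a := 0) (b := 3) (c := 4) (a' := a) (b' := b) (c' := c) (by decide)
    (by decide) (by decide) hab hac hbc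
  obtain ⟨g, hg⟩ := h.ind τ
  have h2 := cj_mono g (h.W_le' hL)
  have e : cj g (N L z 0 3 ⊔ N L z 0 4) = cj g (N L z 0 3) ⊔ cj g (N L z 0 4) := Subgroup.map_sup _ _ _
  rwa [e, hg.W_eq, hg.N_eq, hg.N_eq, t0, t3, t4] at h2

theorem Fr5.NN_le_W : (⨆ a, W L z a) ≤ W L z 1 ⊔ W L z 2 := by
  refine iSup_le fun a => ?_
  by_cases h1 : a = 1
  · rw [h1]
    exact le_sup_left
  by_cases h2 : a = 2
  · rw [h2]
    exact le_sup_right
  exact h.W_le_W' hL h1 h2 (by decide)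

theorem Fr5.NN_le_three : (⨆ a, W L z a) ≤ N L z 1 2 ⊔ N L z 1 3 ⊔ N L z 2 3 := by
  refine (h.NN_le_W hL).trans (sup_le ?_ ?_)
  · exact (h.W_le_N hL (a := 1) (b := 2) (c := 3) (by decide) (by decide) (by decide)).trans le_sup_left
  · refine (h.W_le_N hL (a := 2) (b := 1) (c := 3) (by decide) (by decide) (by decide)).trans (sup_le ?_ le_sup_right)
    rw [N_comm']
    exact le_sup_left.trans le_sup_left

theorem Fr5.NN_ab : (⨆ a, W L z a) ≤ centralizer ((⨆ a, W L z a : Subgroup G) : Set G) := by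
  have hW : ∀ a, W L z a ≤ centralizer (W L z a : Set G) := fun a => (eab_iff.1 (h.Wa_ab a)).1
  have h12 : N L z 1 2 ≤ centralizer (N L z 1 2 ⊔ N L z 1 3 ⊔ N L z 2 3 : Subgroup G) := by
    apply comm_symm
    refine sup_le (sup_le ?_ ?_) ?_
    · exact (N_le_W_left 1 2).trans ((hW 1).trans (centralizer_le (N_le_W_left 1 2)))
    · exact (N_le_W_left 1 3).trans ((hW 1).trans (centralizer_le (N_le_W_left 1 2)))
    · exact (N_le_W_left 2 3).trans ((hW 2).trans (centralizer_le (N_le_W_right 1 2)))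
  have h13 : N L z 1 3 ≤ centralizer (N L z 1 2 ⊔ N L z 1 3 ⊔ N L z 2 3 : Subgroup G) := by
    apply comm_symm
    refine sup_le (sup_le ?_ ?_) ?_
    · exact (N_le_W_left 1 2).trans ((hW 1).trans (centralizer_le (N_le_W_left 1 3)))
    · exact (N_le_W_left 1 3).trans ((hW 1).trans (centralizer_le (N_le_W_left 1 3)))
    · exact (N_le_W_right 2 3).trans ((hW 3).trans (centralizer_le (N_le_W_right 1 3)))
  have h23 : N L z 2 3 ≤ centralizer (N L z 1 2 ⊔ N L z 1 3 ⊔ N L z 2 3 : Subgroup G) := by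
    apply comm_symm
    refine sup_le (sup_le ?_ ?_) ?_
    · exact (N_le_W_right 1 2).trans ((hW 2).trans (centralizer_le (N_le_W_left 2 3)))
    · exact (N_le_W_right 1 3).trans ((hW 3).trans (centralizer_le (N_le_W_right 2 3)))
    · exact (N_le_W_left 2 3).trans ((hW 2).trans (centralizer_le (N_le_W_left 2 3)))
  have h1 := h.NN_le_three hL
  exact (h1.trans (sup_le (sup_le h12 h13) h23)).trans (centralizer_le h1)

/-- (1) -/
theorem Fr5.NN_le (h3 : Three L z) : (⨆ a, W L z a) ≤ N L z 0 4 ⊔ N L z 1 2 := by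
  obtain ⟨r, σ, hr, s0, s4, s1, s2, s3, hc⟩ := h3
  have key : ∀ n ∈ (⨆ a, W L z a), r * n * r⁻¹ = ⁅n, r⁆⁻¹ * n := by
    intro n hn
    simp only [commutatorElement_def]
    group
  have h12 : N L z 1 2 ≤ ⨆ a, W L z a := (N_le_W_left 1 2).trans (le_iSup (W L z) 1)
  have h23' : N L z 2 3 ≤ ⨆ a, W L z a := (N_le_W_left 2 3).trans (le_iSup (W L z) 2)
  have h23 : N L z 2 3 ≤ N L z 0 4 ⊔ N L z 1 2 := by
    have e := hr.N_eq 1 2
    rw [s1, s2] at e
    rw [← e]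
    rintro _ ⟨n, hn, rfl⟩
    change r * n * r⁻¹ ∈ _
    rw [key n (h12 hn)]
    exact mul_mem (inv_mem (mem_sup_left (hc n (h12 hn)))) (mem_sup_right hn)
  have h13 : N L z 1 3 ≤ N L z 0 4 ⊔ N L z 1 2 := by
    have e := hr.N_eq 2 3
    rw [s2, s3] at e
    rw [N_comm', ← e]
    rintro _ ⟨n, hn, rfl⟩
    change r * n * r⁻¹ ∈ _
    rw [key n (h23' hn)]
    exact mul_mem (inv_mem (mem_sup_left (hc n (h23' hn)))) (h23 hn)
  exact (h.NN_le_three hL).trans (sup_le (sup_le le_sup_right h13) h23)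

end one

/-! ### The groups `D`, `Q_04`, `Q_12` -/

section two

variable [Finite G] {L T B : Subgroup G} {z : Fin 5 → G} (f : FailHyp L T B z)
include f

/-- `s ∈ L` inducing `(0 1)(4 2)` -/
theorem FailHyp.sw : ∃ g σ, Ind L z g σ ∧ σ 0 = 1 ∧ σ 1 = 0 ∧ σ 4 = 2 ∧ σ 2 = 4 ∧ σ 3 = 3 := by
  obtain ⟨g, hg⟩ := f.fr.ind (Equiv.swap 0 1 * Equiv.swap 4 2)
  exact ⟨g, _, hg, by decide, by decide, by decide, by decide, by decide⟩

omit f in
theorem DD_le_left : DD z ≤ CC z 0 4 := inf_le_left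

omit f in
theorem DD_le_right : DD z ≤ CC z 1 2 := inf_le_right

omit f in
theorem mul_mem_V (a b : Fin 5) : z a * z b ∈ V z := mul_mem (z_mem_V a) (z_mem_V b)

omit f in
theorem X12_le_CC (hp : z 0 = z 1 * z 2 * z 3 * z 4) (hs : ∀ a, z a * z a = 1)
    (hc : ∀ a b, z a * z b = z b * z a) : X z 1 2 ≤ DD z := by
  intro x hx
  rw [mem_X_iff] at hx
  have h0 := hx 0 (by decide) (by decide)
  have h3 := hx 3 (by decide) (by decide)
  have h4 := hx 4 (by decide) (by decide)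
  have h04 : z 0 * z 4 * x = x * (z 0 * z 4) := by
    rw [mul_assoc, h4, ← mul_assoc, h0, mul_assoc]
  have e : z 1 * z 2 = z 0 * z 4 * z 3 := by
    rw [hp]
    calc z 1 * z 2 = z 1 * z 2 * (z 3 * (z 4 * z 4) * z 3) := by rw [hs 4, mul_one, hs 3, mul_one]
      _ = z 1 * z 2 * z 3 * z 4 * z 4 * z 3 := by group
  refine mem_inf.2 ⟨mem_centralizer_iff.2 ?_, mem_centralizer_iff.2 ?_⟩
  · rintro _ rfl
    exact h04
  · rintro _ rfl
    rw [e, mul_assoc, h3, ← mul_assoc, h04, mul_assoc]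

theorem FailHyp.X12_le : X z 1 2 ≤ DD z := X12_le_CC f.fr.prod f.fr.sq f.fr.comm

theorem FailHyp.DD_cj {g : G} {σ : Equiv.Perm (Fin 5)} (hg : Ind L z g σ) (h0 : σ 0 = 1) (h1 : σ 1 = 0)
    (h4 : σ 4 = 2) (h2 : σ 2 = 4) : cj g (DD z) = DD z := by
  rw [DD, cj_inf, hg.CC_eq, hg.CC_eq, h0, h1, h4, h2, inf_comm]

/-- `z_0 z_4 ∈ O_2(D)` -/
theorem FailHyp.z04_mem : z 0 * z 4 ∈ o2 (DD z) := by
  have h1 : zpowers (z 0 * z 4) ≤ o2 (DD z) := by
    refine ChoiceSit.le_o2 ?_ ?_ ?_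
    · intro x
      refine ⟨1, Subtype.ext ?_⟩
      obtain ⟨k, hk⟩ := mem_zpowers_iff.1 x.2
      have h2 : (z 0 * z 4) * (z 0 * z 4) = 1 := by
        calc (z 0 * z 4) * (z 0 * z 4) = z 0 * (z 4 * z 0) * z 4 := by group
          _ = z 0 * (z 0 * z 4) * z 4 := by rw [f.fr.comm 4 0]
          _ = (z 0 * z 0) * (z 4 * z 4) := by group
          _ = 1 := by rw [f.fr.sq, f.fr.sq, mul_one]
      change (x : G) ^ 2 ^ 1 = 1
      rw [← hk, pow_one, ← zpow_natCast, ← zpow_mul, mul_comm, zpow_mul, zpow_natCast, pow_two, h2, one_zpow]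
    · rw [zpowers_le]
      refine mem_inf.2 ⟨mem_centralizer_iff.2 ?_, mem_centralizer_iff.2 ?_⟩
      · rintro _ rfl
        rfl
      · rintro _ rfl
        have hc := f.fr.comm
        calc z 1 * z 2 * (z 0 * z 4) = z 1 * (z 2 * z 0) * z 4 := by group
          _ = (z 1 * z 0) * (z 2 * z 4) := by rw [hc 2 0]; group
          _ = z 0 * (z 1 * z 4) * z 2 := by rw [hc 1 0, hc 2 4]; group
          _ = z 0 * z 4 * (z 1 * z 2) := by rw [hc 1 4]; group
    · refine le_trans ?_ (centralizer_le_normalizer _)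
      rw [Subgroup.le_centralizer_iff, zpowers_le, mem_centralizer_iff]
      intro x hx
      exact (mem_centralizer_iff.1 (DD_le_left hx) _ rfl).symm
  exact h1 (mem_zpowers _)

theorem FailHyp.Q_le_D : o2 (CC z 0 4) ≤ DD z :=
  le_inf (ChoiceSit.o2_le _) ((ChoiceSit.o2_le_syl f.sylB).trans f.BC)

theorem FailHyp.Q_le_O : o2 (CC z 0 4) ≤ o2 (DD z) :=
  ChoiceSit.le_o2 (ChoiceSit.isPGroup_o2 _) f.Q_le_D (DD_le_left.trans (ChoiceSit.le_normalizer_o2 _))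

omit f in
theorem mem_CC_self (a b : Fin 5) : z a * z b ∈ CC z a b := by
  refine mem_centralizer_iff.2 ?_
  rintro _ rfl
  rfl

theorem FailHyp.mem_CC (a b c d : Fin 5) : z a * z b ∈ CC z c d := by
  refine mem_centralizer_iff.2 ?_
  rintro _ rfl
  have hc := f.fr.comm
  calc z c * z d * (z a * z b) = z c * (z d * z a) * z b := by group
    _ = (z c * z a) * (z d * z b) := by rw [hc d a]; group
    _ = z a * (z c * z b) * z d := by rw [hc c a, hc d b]; group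
    _ = z a * z b * (z c * z d) := by rw [hc c b]; group

theorem FailHyp.NB_le_Q : NB z 0 4 1 2 ≤ o2 (CC z 0 4) := by
  refine ChoiceSit.le_o2 f.p2 ?_ (nc_norm _ _)
  refine nc_le ?_ Subgroup.le_normalizer
  rw [zpowers_le]
  exact f.mem_CC _ _ _ _

theorem FailHyp.Q_cent : o2 (CC z 0 4) ≤ centralizer (NB z 0 4 1 2 : Set G) := by
  rw [Subgroup.le_centralizer_iff]
  refine nc_le ?_ ?_
  · rw [zpowers_le, mem_centralizer_iff]
    intro x hx
    exact (mem_centralizer_iff.1 (DD_le_right (f.Q_le_D hx)) _ rfl).symm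
  · have h1 := ChoiceSit.le_normalizer_o2 (CC z 0 4)
    intro x hx
    rw [mem_normalizer_iff_cj, cj_centralizer, cj_eq_of_mem_normalizer (h1 hx)]

/-- `C_O(NB) ≤ Q_04` -/
theorem FailHyp.le_Q {A : Subgroup G} (hA : A ≤ o2 (DD z)) (hc : A ≤ centralizer (NB z 0 4 1 2 : Set G)) :
    A ≤ o2 (CC z 0 4) := by
  set C : Subgroup G := CC z 0 4 ⊓ centralizer (NB z 0 4 1 2 : Set G) with hC
  have hCD : C ≤ DD z := by
    refine le_inf inf_le_left (inf_le_right.trans ?_)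
    refine centralizer_le ?_
    rintro _ rfl
    exact le_nc _ _ (mem_zpowers _)
  have hCn : CC z 0 4 ≤ normalizer (C : Set G) := by
    intro x hx
    have h2 : x ∈ normalizer (NB z 0 4 1 2 : Set G) := nc_norm _ _ hx
    rw [mem_normalizer_iff_cj, hC, cj_inf, cj_centralizer, cj_eq_of_mem_normalizer h2,
      cj_eq_of_mem_normalizer (Subgroup.le_normalizer hx)]
  have h1 : o2 (DD z) ⊓ C ≤ o2 C := by
    refine ChoiceSit.le_o2 ((ChoiceSit.isPGroup_o2 _).to_le inf_le_left) inf_le_right ?_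
    intro c hc
    rw [mem_normalizer_iff_cj, cj_inf, cj_eq_of_mem_normalizer (ChoiceSit.le_normalizer_o2 _ (hCD hc)),
      cj_eq_of_mem_normalizer (Subgroup.le_normalizer hc)]
  have h2 : o2 C ≤ o2 (CC z 0 4) := by
    refine ChoiceSit.le_o2 (ChoiceSit.isPGroup_o2 _) ((ChoiceSit.o2_le _).trans inf_le_left) ?_
    intro y hy
    rw [mem_normalizer_iff_cj, ← o2_cj, cj_eq_of_mem_normalizer (hCn hy)]
  refine le_trans (le_inf hA (le_inf (hA.trans ((ChoiceSit.o2_le _).trans DD_le_left)) hc)) (h1.trans h2)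

/-- `N_04 ≤ ⟨z_0 z_4⟩ NB` -/
theorem FailHyp.N_le : N L z 0 4 ≤ zpowers (z 0 * z 4) ⊔ NB z 0 4 1 2 := by
  have hY : Y L z 0 4 ≤ CC z 0 4 := by
    intro y hy
    have h1 := mem_centralizer_iff.1 (Y_le_cent 0 4 hy)
    have h0 := h1 (z 0) (Set.mem_insert _ _)
    have h4 := h1 (z 4) (Set.mem_insert_of_mem _ rfl)
    refine mem_centralizer_iff.2 ?_
    rintro _ rfl
    rw [mul_assoc, h4, ← mul_assoc, h0, mul_assoc]
  refine f.fr.N04_le.trans (nc_le ?_ ?_)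
  · rw [zpowers_le]
    have e : z 3 = z 0 * z 4 * (z 1 * z 2) := by
      have hp := f.fr.prod
      have hc := f.fr.comm
      have hs := f.fr.sq
      rw [hp]
      calc z 3 = (z 1 * z 1) * ((z 2 * z 2) * z 3 * (z 4 * z 4)) := by rw [hs, hs, hs]; simp
        _ = z 1 * (z 1 * z 2) * (z 2 * z 3) * z 4 * z 4 := by group
        _ = z 1 * (z 2 * z 1) * (z 2 * z 3) * z 4 * z 4 := by rw [hc 1 2]
        _ = z 1 * z 2 * (z 1 * z 2) * z 3 * (z 4 * z 4) := by group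
        _ = z 1 * z 2 * (z 1 * z 2 * z 3) := by rw [hs 4]; group
        _ = z 1 * z 2 * (z 1 * (z 3 * z 2)) := by rw [hc 3 2]; group
        _ = z 1 * z 2 * (z 1 * z 3 * z 2) := by group
        _ = z 1 * z 2 * (z 3 * z 1 * z 2) := by rw [hc 1 3]
        _ = z 1 * z 2 * z 3 * (z 4 * z 4) * (z 1 * z 2) := by rw [hs 4]; group
        _ = z 1 * z 2 * z 3 * z 4 * z 4 * (z 1 * z 2) := by group
    rw [e]
    exact mul_mem (mem_sup_left (mem_zpowers _)) (mem_sup_right (le_nc _ _ (mem_zpowers _)))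
  · intro y hy
    have hy' := hY hy
    refine norm_sup ?_ (nc_norm _ _ hy')
    refine centralizer_le_normalizer _ ?_
    rw [mem_centralizer_iff]
    intro x hx
    obtain ⟨k, hk⟩ := mem_zpowers_iff.1 hx
    rw [← hk]
    have h2 : Commute (z 0 * z 4) y := mem_centralizer_iff.1 hy' _ rfl
    exact (h2.zpow_left k).eq

theorem FailHyp.N04_le_O : N L z 0 4 ≤ o2 (DD z) := by
  refine f.N_le.trans (sup_le ?_ (f.NB_le_Q.trans f.Q_le_O))
  rw [zpowers_le]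
  exact f.z04_mem

theorem FailHyp.N12_le_O : N L z 1 2 ≤ o2 (DD z) := by
  obtain ⟨g, σ, hg, h0, h1, h4, h2, h3⟩ := f.sw
  have e := cj_mono g f.N04_le_O
  rwa [← o2_cj, f.DD_cj hg h0 h1 h4 h2, hg.N_eq, h0, h4] at e

/-- `[A, N_04] = 1` for `A ≤ Q_04` -/
theorem FailHyp.cent_N {A : Subgroup G} (hA : A ≤ o2 (CC z 0 4)) : A ≤ centralizer (N L z 0 4 : Set G) := by
  apply comm_symm
  refine f.N_le.trans (sup_le ?_ ?_)
  · rw [zpowers_le, mem_centralizer_iff]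
    intro x hx
    exact (mem_centralizer_iff.1 (DD_le_left (f.Q_le_D (hA hx))) _ rfl).symm
  · exact comm_symm (hA.trans f.Q_cent)

theorem FailHyp.cent_N' {A : Subgroup G} (hA : A ≤ o2 (CC z 1 2)) : A ≤ centralizer (N L z 1 2 : Set G) := by
  obtain ⟨g, σ, hg, h0, h1, h4, h2, h3⟩ := f.sw
  have e : cj g (CC z 1 2) = CC z 0 4 := by rw [hg.CC_eq, h1, h2]
  have h5 := f.cent_N (A := cj g A) (by
    have := cj_mono g hA
    rwa [← o2_cj, e] at this)
  have e2 : cj g (N L z 1 2) = N L z 0 4 := by rw [hg.N_eq, h1, h2]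
  rw [← e2, ← cj_centralizer] at h5
  have h6 := cj_mono g⁻¹ h5
  rwa [cj_inv_cj, cj_inv_cj] at h6

theorem FailHyp.X12_o2 {A : Subgroup G} (hA : A ≤ o2 (DD z)) (hV : A ≤ centralizer (Set.range z)) :
    A ≤ o2 (X z 1 2) := by
  have h1 : o2 (DD z) ⊓ X z 1 2 ≤ o2 (X z 1 2) := by
    refine ChoiceSit.le_o2 ((ChoiceSit.isPGroup_o2 _).to_le inf_le_left) inf_le_right ?_
    intro c hc
    rw [mem_normalizer_iff_cj, cj_inf, cj_eq_of_mem_normalizer (ChoiceSit.le_normalizer_o2 _ (f.X12_le hc)),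
      cj_eq_of_mem_normalizer (Subgroup.le_normalizer hc)]
  exact (le_inf hA (hV.trans (f.fr.C_le_X 1 2))).trans h1

/-- (NO) on `N_04` for `A ∈ AA(O)` -/
theorem FailHyp.no04 {A : Subgroup G} (hA : A ∈ AA (o2 (DD z))) :
    (centralizer (N L z 0 4 : Set G)).relIndex A ≤ (centralizer (A : Set G)).relIndex (N L z 0 4) :=
  f.fr.no A hA.1 (f.X12_o2 hA.2.1 (f.jV A hA))

theorem FailHyp.AA_cj {g : G} (hg : cj g (DD z) = DD z) {A : Subgroup G} (hA : A ∈ AA (o2 (DD z))) :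
    cj g A ∈ AA (o2 (DD z)) := by
  have h1 := cj_mem_AA g hA
  rwa [← o2_cj, hg] at h1

theorem FailHyp.no12 {A : Subgroup G} (hA : A ∈ AA (o2 (DD z))) :
    (centralizer (N L z 1 2 : Set G)).relIndex A ≤ (centralizer (A : Set G)).relIndex (N L z 1 2) := by
  obtain ⟨g, σ, hg, h0, h1, h4, h2, h3⟩ := f.sw
  have h5 := f.no04 (f.AA_cj (f.DD_cj hg h0 h1 h4 h2) hA)
  have e2 : cj g (N L z 1 2) = N L z 0 4 := by rw [hg.N_eq, h1, h2]
  rw [← e2, ← cj_centralizer, ← cj_centralizer, relIndex_cj, relIndex_cj] at h5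
  exact h5

theorem FailHyp.fail12 {A : Subgroup G} (hA : A ∈ AA (o2 (DD z))) (hc : A ≤ centralizer (N L z 1 2 : Set G)) :
    A ≤ centralizer (NB z 1 2 0 4 : Set G) := by
  obtain ⟨g, σ, hg, h0, h1, h4, h2, h3⟩ := f.sw
  have e2 : cj g (N L z 1 2) = N L z 0 4 := by rw [hg.N_eq, h1, h2]
  have h5 := cj_mono g hc
  rw [cj_centralizer, e2] at h5
  have h6 := f.fail _ (f.AA_cj (f.DD_cj hg h0 h1 h4 h2) hA) h5
  have e3 : cj g (NB z 1 2 0 4) = NB z 0 4 1 2 := by rw [hg.NB_eq, h0, h1, h2, h4]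
  rw [← e3, ← cj_centralizer] at h6
  have h7 := cj_mono g⁻¹ h6
  rwa [cj_inv_cj, cj_inv_cj] at h7

theorem FailHyp.le_Q12 {A : Subgroup G} (hA : A ≤ o2 (DD z)) (hc : A ≤ centralizer (NB z 1 2 0 4 : Set G)) :
    A ≤ o2 (CC z 1 2) := by
  obtain ⟨g, σ, hg, h0, h1, h4, h2, h3⟩ := f.sw
  have e1 : cj g (CC z 1 2) = CC z 0 4 := by rw [hg.CC_eq, h1, h2]
  have e3 : cj g (NB z 1 2 0 4) = NB z 0 4 1 2 := by rw [hg.NB_eq, h0, h1, h2, h4]
  have h5 := cj_mono g hA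
  rw [← o2_cj, f.DD_cj hg h0 h1 h4 h2] at h5
  have h6 := cj_mono g hc
  rw [cj_centralizer, e3] at h6
  have h7 := cj_mono g⁻¹ (f.le_Q h5 h6)
  rw [cj_inv_cj, ← e1, o2_cj, cj_inv_cj] at h7
  exact h7

theorem FailHyp.Q12_le_O : o2 (CC z 1 2) ≤ o2 (DD z) := by
  obtain ⟨g, σ, hg, h0, h1, h4, h2, h3⟩ := f.sw
  have e1 : cj g (CC z 0 4) = CC z 1 2 := by rw [hg.CC_eq, h0, h4]
  have h5 := cj_mono g f.Q_le_O
  rwa [← o2_cj, ← o2_cj, f.DD_cj hg h0 h1 h4 h2, e1] at h5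

/-- `Σ` -/
def Sig (L : Subgroup G) (z : Fin 5 → G) : Set (Subgroup G) :=
  {A | A ∈ AA (o2 (DD z)) ∧ A ≤ centralizer ((⨆ a, W L z a : Subgroup G) : Set G)}

theorem FailHyp.le_Qs {A : Subgroup G} (hA : A ∈ Sig L z) : A ≤ o2 (CC z 0 4) ∧ A ≤ o2 (CC z 1 2) := by
  obtain ⟨h1, h2⟩ := hA
  refine ⟨f.le_Q h1.2.1 (f.fail A h1 (h2.trans (centralizer_le ?_))),
    f.le_Q12 h1.2.1 (f.fail12 h1 (h2.trans (centralizer_le ?_)))⟩
  · exact (N_le_W_left 0 4).trans (le_iSup (W L z) 0)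
  · exact (N_le_W_left 1 2).trans (le_iSup (W L z) 1)

variable (hL : Lev L z) (h3 : Three L z)
include hL h3

theorem FailHyp.mem_Sig {A : Subgroup G} (hA : A ∈ AA (o2 (DD z))) (h04 : A ≤ o2 (CC z 0 4))
    (h12 : A ≤ o2 (CC z 1 2)) : A ∈ Sig L z := by
  refine ⟨hA, ?_⟩
  apply comm_symm
  exact (f.fr.NN_le hL h3).trans (sup_le (comm_symm (f.cent_N h04)) (comm_symm (f.cent_N' h12)))

/-- (2) -/
theorem FailHyp.exists_mem : ∃ A ∈ Sig L z, (⨆ a, W L z a) ≤ A := by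
  obtain ⟨A, hA⟩ := AA_nonempty (o2 (DD z))
  have hab := f.fr.NN_ab hL
  have hN04 : N L z 0 4 ≤ ⨆ a, W L z a := (N_le_W_left 0 4).trans (le_iSup (W L z) 0)
  have hN12 : N L z 1 2 ≤ ⨆ a, W L z a := (N_le_W_left 1 2).trans (le_iSup (W L z) 1)
  have e04 : IsElementaryAbelian 2 (N L z 0 4 : Subgroup G) := f.fr.eab04
  have e12 : IsElementaryAbelian 2 (N L z 1 2 : Subgroup G) := eab_mono (f.fr.Wa_ab 1) (N_le_W_left 1 2)
  obtain ⟨-, -, hA1⟩ := swp e04 f.N04_le_O hA (f.no04 hA)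
  obtain ⟨-, -, hA2⟩ := swp e12 f.N12_le_O hA1 (f.no12 hA1)
  refine ⟨_, ⟨hA2, ?_⟩, ?_⟩
  · have h1 : (⨆ a, W L z a) ≤
        ((A ⊓ centralizer (N L z 0 4 : Set G)) ⊔ N L z 0 4) ⊓ centralizer (N L z 1 2 : Set G) ⊔ N L z 1 2 := by
      refine (f.fr.NN_le hL h3).trans (sup_le (le_sup_of_le_left (le_inf le_sup_right ?_)) le_sup_right)
      exact hN04.trans (hab.trans (centralizer_le hN12))
    exact ((eab_iff.1 hA2.1).1).trans (centralizer_le h1)
  · refine (f.fr.NN_le hL h3).trans (sup_le (le_sup_of_le_left (le_inf le_sup_right ?_)) le_sup_right)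
    exact hN04.trans (hab.trans (centralizer_le hN12))

/-- (4) **CASE I + FAIL**: `⟨L, D⟩` normalises a nontrivial 2-group. -/
theorem FailHyp.local_one : ∃ R : Subgroup G, R ≠ ⊥ ∧ IsPGroup 2 R ∧ L ≤ normalizer (R : Set G) ∧
    DD z ≤ normalizer (R : Set G) := by
  have hmem : ∀ {A : Subgroup G}, A ∈ Sig L z → A ≤ sSup (Sig L z) := fun hA => le_sSup hA
  -- elements permuting `Σ` normalise its join
  have hcj : ∀ g : G, (∀ A ∈ Sig L z, cj g A ∈ Sig L z) → g ∈ normalizer ((sSup (Sig L z) : Subgroup G) : Set G) := by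
    intro g hg
    refine mem_norm_of_le ?_
    rw [sSup_eq_iSup', cj, Subgroup.map_iSup]
    refine iSup_le fun A => ?_
    exact le_iSup (fun A : Sig L z => (A : Subgroup G)) ⟨_, hg A A.2⟩
  have hmx : ∀ (g : G) (A : Subgroup G), A ∈ Sig L z → cj g A ≤ o2 (DD z) → cj g A ∈ AA (o2 (DD z)) := by
    intro g A hA hle
    rw [mem_AA_iff]
    exact ⟨isElementaryAbelian_cj g hA.1.1, hle, by rw [card_cj]; exact (mem_AA_iff.1 hA.1).2.2⟩
  have hNN : ∀ (g : G) (σ : Equiv.Perm (Fin 5)), Ind L z g σ → ∀ A ∈ Sig L z,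
      cj g A ≤ centralizer ((⨆ a, W L z a : Subgroup G) : Set G) := by
    intro g σ hg A hA
    have h1 := cj_mono g hA.2
    rwa [cj_centralizer, hg.NN_eq] at h1
  have h04 : ∀ g σ, Ind L z g σ → (σ 0 = 0 ∧ σ 4 = 4) ∨ (σ 0 = 4 ∧ σ 4 = 0) →
      g ∈ normalizer ((sSup (Sig L z) : Subgroup G) : Set G) := by
    intro g σ hg hσ
    refine hcj g fun A hA => ?_
    have e : cj g (CC z 0 4) = CC z 0 4 := by
      rw [hg.CC_eq]
      rcases hσ with ⟨h1, h2⟩ | ⟨h1, h2⟩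
      · rw [h1, h2]
      · rw [h1, h2, CC_comm f.fr.comm]
    have h1 := cj_mono g (f.le_Qs hA).1
    rw [← o2_cj, e] at h1
    exact ⟨hmx g A hA (h1.trans f.Q_le_O), hNN g σ hg A hA⟩
  have h12 : ∀ g σ, Ind L z g σ → (σ 1 = 1 ∧ σ 2 = 2) ∨ (σ 1 = 2 ∧ σ 2 = 1) →
      g ∈ normalizer ((sSup (Sig L z) : Subgroup G) : Set G) := by
    intro g σ hg hσ
    refine hcj g fun A hA => ?_
    have e : cj g (CC z 1 2) = CC z 1 2 := by
      rw [hg.CC_eq]
      rcases hσ with ⟨h1, h2⟩ | ⟨h1, h2⟩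
      · rw [h1, h2]
      · rw [h1, h2, CC_comm f.fr.comm]
    have h1 := cj_mono g (f.le_Qs hA).2
    rw [← o2_cj, e] at h1
    exact ⟨hmx g A hA (h1.trans f.Q12_le_O), hNN g σ hg A hA⟩
  obtain ⟨A₀, hA₀, hNA⟩ := f.exists_mem hL h3
  refine ⟨sSup (Sig L z), ?_, ?_, ?_, ?_⟩
  · intro e
    have h1 : z 0 ∈ sSup (Sig L z) := hmem hA₀ (hNA ((le_iSup (W L z) 0) (V_le_W 0 (z_mem_V 0))))
    rw [e] at h1
    exact f.fr.z_ne 0 (mem_bot.1 h1)
  · exact (ChoiceSit.isPGroup_o2 (DD z)).to_le (sSup_le fun A hA => hA.1.2.1)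
  · intro g hg
    obtain ⟨σ, hσ⟩ := f.fr.ind_of hg
    refine perm_gen (P := fun σ => ∀ g, Ind L z g σ → g ∈ normalizer ((sSup (Sig L z) : Subgroup G) : Set G))
      ?_ (fun σ h1 g h2 => h04 g σ h2 h1) (fun σ h1 g h2 => h12 g σ h2 h1) σ g hσ
    intro σ τ h1 h2 g hg
    obtain ⟨g₁, hg₁⟩ := f.fr.ind σ
    have h4 := hg₁.inv.mul hg
    rw [inv_mul_cancel_left] at h4
    have h5 := mul_mem (h1 g₁ hg₁) (h2 _ h4)
    rwa [mul_inv_cancel_left] at h5
  · intro g hg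
    refine hcj g fun A hA => ?_
    obtain ⟨h1, h2⟩ := f.le_Qs hA
    have e := cj_eq_of_mem_normalizer (Subgroup.le_normalizer hg : g ∈ normalizer (DD z : Set G))
    refine f.mem_Sig hL h3 (f.AA_cj e hA.1) ?_ ?_
    · have h4 := cj_mono g h1
      rwa [cj_eq_of_mem_normalizer (ChoiceSit.le_normalizer_o2 _ (DD_le_left hg))] at h4
    · have h4 := cj_mono g h2
      rwa [cj_eq_of_mem_normalizer (ChoiceSit.le_normalizer_o2 _ (DD_le_right hg))] at h4

end two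

end Cfsg.Agent.Omega.NO3S.MFive
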