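import Cfsg.Agent.Omega.NO3S.MFive.FailInst
import Cfsg.Agent.Omega.NO3S.MFive.FailEnd

/-!
# `W_3 ≤ O₂(D)` in every labelling of the five letters

`w3_comp` : for `zf p ∘ π`; `w3_zv` : for `Inst.zv p`.
-/

set_option autoImplicit false
set_option linter.unusedSectionVars false

namespace Cfsg.Agent.Omega.NO3S.MFive.WThree

open Subgroup Cfsg Cfsg.Agent.ZN Cfsg.Agent.ZN.ChoiceBase
open Cfsg.Agent.ZN.ChoiceSit (Syl o2_cj)
open Cfsg.Agent.Omega.NTwo Cfsg.Agent.Omega.NO3S.Sym.Exit Cfsg.Agent.Omega.NO3S.Sym.Light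

universe u

variable {G : Type u} [Group G] [Finite G] {S : Sylow 2 G} {P : Subgroup G} {p : Fin 5 → G}

theorem DD_comp (z : Fin 5 → G) (σ : Equiv.Perm (Fin 5)) : DD (z ∘ σ) = CC z (σ 0) (σ 4) ⊓ CC z (σ 1) (σ 2) := rfl

/-- every permutation of the letters `zf p` is induced by `N_G(V)` -/
theorem exists_ind (h : FiveL S P p) (π : Equiv.Perm (Fin 5)) :
    ∃ g, Ind (normalizer (zl (S : Subgroup G) P : Set G)) (zf p) g π := by
  obtain ⟨g, hg, h1⟩ := h.std.full (tau0 * π * tau0⁻¹)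
  refine ⟨g, Cfsg.Agent.ZN.le_normalizer_zl _ _ hg, fun a => ?_⟩
  change g * p (tau0 a) * g⁻¹ = p (tau0 (π a))
  rw [h1]
  change p (tau0 (π (tau0⁻¹ (tau0 a)))) = _
  exact congrArg (fun b => p (tau0 (π b))) (tau0.symm_apply_apply a)

theorem w3_comp (h : FiveL S P p) (π : Equiv.Perm (Fin 5)) :
    W (normalizer (zl (S : Subgroup G) P : Set G)) (zf p ∘ π) 3 ≤ o2 (DD (zf p ∘ π)) := by
  obtain ⟨g, hg⟩ := exists_ind h π
  have h1 : DD (zf p ∘ π) = cj g (DD (zf p)) := by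
    rw [DD_comp, ← hg.CC_eq, ← hg.CC_eq, ← cj_inf]
    rfl
  rw [W_comp, ← hg.W_eq, h1, o2_cj]
  exact cj_mono g (w3 h)

theorem zv_eq (p : Fin 5 → G) : Inst.zv p = zf p ∘ (tau0⁻¹ * Inst.rho : Equiv.Perm (Fin 5)) := by
  funext a
  exact congrArg p (tau0.apply_symm_apply (Inst.rho a)).symm

/-- **`W_3 ≤ O₂(D)`** in the letters `Inst.zv p` -/
theorem w3_zv (h : FiveL S P p) :
    W (normalizer (zl (S : Subgroup G) P : Set G)) (Inst.zv p) 3 ≤ o2 (DD (Inst.zv p)) := by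
  rw [zv_eq]
  exact w3_comp h _

end Cfsg.Agent.Omega.NO3S.MFive.WThree
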