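import Cfsg.Agent.Omega.NO3S.MFive.Core

/-!
# LightL (E), `n = 5`: the last case, `J(O_2(D))` centralises `V` and FAIL (helper736 #25382)

Letters `0..4`, pairs `{0, 4}`, `{1, 2}`, fifth letter `3`.

* `CC z a b = C(z_a z_b)`, `DD z = C(z_0 z_4, z_1 z_2)`;
* `NB z a b c d = ⟨(z_c z_d)^C(z_a z_b)⟩`;
* `FailHyp L T B z` : the frame `Fr5`, `B` Sylow in `C(z_0 z_4)` centralises `z_1 z_2`, `J(O_2(D))` centralises `V`, and
  FAIL: every `A ∈ AA(O_2(D))` centralising `N_04` centralises `⟨(z_1 z_2)^C(z_0 z_4)⟩`.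
-/

set_option autoImplicit false
set_option linter.unusedSectionVars false
set_option linter.unusedVariables false

namespace Cfsg.Agent.Omega.NO3S.MFive

open Subgroup Cfsg Cfsg.Agent.ZN Cfsg.Agent.ZN.ChoiceBase
open Cfsg.Agent.ZN.ChoiceSit

universe u

variable {G : Type u} [Group G]

/-- `C_ab = C(z_a z_b)` -/
def CC (z : Fin 5 → G) (a b : Fin 5) : Subgroup G := centralizer {z a * z b}

/-- `D = C(z_0 z_4, z_1 z_2)` -/
def DD (z : Fin 5 → G) : Subgroup G := CC z 0 4 ⊓ CC z 1 2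

/-- `⟨(z_c z_d)^C(z_a z_b)⟩` -/
def NB (z : Fin 5 → G) (a b c d : Fin 5) : Subgroup G := nc (CC z a b) (zpowers (z c * z d))

/-- **The last case.** -/
structure FailHyp (L T B : Subgroup G) (z : Fin 5 → G) : Prop where
  fr : Fr5 L T z
  /-- `B` is a Sylow 2-subgroup of `C(z_0 z_4)` and centralises `z_1 z_2` -/
  sylB : Syl B (CC z 0 4)
  BC : B ≤ CC z 1 2
  /-- `⟨(z_1 z_2)^C(z_0 z_4)⟩` is a 2-group -/
  p2 : IsPGroup 2 (NB z 0 4 1 2)
  /-- `J(O_2(D))` centralises `V` -/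
  jV : ∀ A ∈ AA (o2 (DD z)), A ≤ centralizer (Set.range z)
  /-- FAIL -/
  fail : ∀ A ∈ AA (o2 (DD z)), A ≤ centralizer (N L z 0 4 : Set G) → A ≤ centralizer (NB z 0 4 1 2 : Set G)

end Cfsg.Agent.Omega.NO3S.MFive
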