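import Cfsg.Agent.Omega.NO3S.MFive.Inst
import Cfsg.Agent.Omega.NO3S.MFive.FailDef
import Cfsg.Agent.Omega.NO3S.LightB.Facts

/-!
# LightL (E), `n = 5`: the frame `FailHyp` over `FiveL`

* `Fr5.relabel` : THEOREM M5's frame for any order of the letters;
* `zf p` : `z 0, z 4 = p 0, p 1`, `z 1, z 2 = p 2, p 3`, `z 3 = p 4`: `C(z 0 z 4) = C(n)`, `C(z 1 z 2) = C(a)`;
* `exists_fr5`, `sylB`, `BC`, `p2`, `w3`, `failHyp`.
-/

set_option autoImplicit false
set_option linter.unusedSectionVars false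

namespace Cfsg.Agent.Omega.NO3S.MFive

open Subgroup Cfsg Cfsg.Agent.ZN Cfsg.Agent.ZN.ChoiceBase
open Cfsg.Agent.ZN.ChoiceSit (Syl o2_cj)
open Cfsg.Agent.Omega.EK3.Rank (NoOn)
open Cfsg.Agent.Omega.EK3.Lever (relIndex_cj)

universe u

variable {G : Type u} [Group G]

section comp

variable (z : Fin 5 → G) (σ : Equiv.Perm (Fin 5)) (L : Subgroup G)

theorem comp_inv : (z ∘ σ) ∘ (σ⁻¹ : Equiv.Perm (Fin 5)) = z := by
  funext a
  exact congrArg z (σ.apply_symm_apply a)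

theorem range_comp_perm : Set.range (z ∘ σ) = Set.range z := σ.surjective.range_comp z

theorem X_comp (i j : Fin 5) : X (z ∘ σ) i j = X z (σ i) (σ j) := by
  ext x
  rw [mem_X, mem_X]
  constructor
  · intro h k h1 h2
    have h3 := h (σ⁻¹ k) (fun e => h1 (by rw [← e]; exact (σ.apply_symm_apply k).symm))
      (fun e => h2 (by rw [← e]; exact (σ.apply_symm_apply k).symm))
    have e : (z ∘ σ) (σ⁻¹ k) = z k := congrArg z (σ.apply_symm_apply k)
    rwa [e] at h3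
  · intro h k h1 h2
    exact h (σ k) (fun e => h1 (σ.injective e)) (fun e => h2 (σ.injective e))

theorem V_comp : V (z ∘ σ) = V z := by rw [V, V, range_comp_perm]

theorem Zc_comp (a b : Fin 5) : Zc (z ∘ σ) a b = Zc z (σ a) (σ b) := by
  rw [Zc, Zc]
  congr 1
  ext x
  constructor
  · rintro ⟨c, h1, h2, rfl⟩
    exact ⟨σ c, fun e => h1 (σ.injective e), fun e => h2 (σ.injective e), rfl⟩
  · rintro ⟨c, h1, h2, rfl⟩
    refine ⟨σ⁻¹ c, fun e => h1 ?_, fun e => h2 ?_, (congrArg z (σ.apply_symm_apply c)).symm⟩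
    · rw [← e]; exact (σ.apply_symm_apply c).symm
    · rw [← e]; exact (σ.apply_symm_apply c).symm

theorem Y_comp_le (a b : Fin 5) : Y L (z ∘ σ) a b ≤ Y L z (σ a) (σ b) := by
  refine sup_le le_sup_left (iSup_le fun k => iSup_le fun l => iSup_le ?_)
  rintro ⟨h1, ⟨h2, h3⟩, h4, h5⟩
  rw [X_comp]
  have hi : ∀ {x y : Fin 5}, x ≠ y → σ x ≠ σ y := fun hxy e => hxy (σ.injective e)
  refine le_trans ?_ (le_sup_right : _ ≤ Y L z (σ a) (σ b))
  refine le_trans ?_ (le_iSup _ (σ k))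
  refine le_trans ?_ (le_iSup _ (σ l))
  exact le_iSup (fun _ : σ k ≠ σ l ∧ (σ k ≠ σ a ∧ σ k ≠ σ b) ∧ σ l ≠ σ a ∧ σ l ≠ σ b => X z (σ k) (σ l))
    ⟨hi h1, ⟨hi h2, hi h3⟩, hi h4, hi h5⟩

theorem Y_comp (a b : Fin 5) : Y L (z ∘ σ) a b = Y L z (σ a) (σ b) := by
  apply le_antisymm (Y_comp_le z σ L a b)
  have h1 := Y_comp_le (z ∘ σ) σ⁻¹ L (σ a) (σ b)
  rw [comp_inv] at h1
  have e : ∀ a, σ⁻¹ (σ a) = a := fun a => σ.symm_apply_apply a
  rwa [e, e] at h1

theorem N_comp (a b : Fin 5) : N L (z ∘ σ) a b = N L z (σ a) (σ b) := by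
  rw [N, N, Y_comp, Zc_comp]

theorem M_comp_le (a : Fin 5) : M L (z ∘ σ) a ≤ M L z (σ a) := by
  refine sup_le le_sup_left (iSup_le fun k => iSup_le fun l => iSup_le ?_)
  rintro ⟨h1, h2, h3⟩
  rw [X_comp]
  have hi : ∀ {x y : Fin 5}, x ≠ y → σ x ≠ σ y := fun hxy e => hxy (σ.injective e)
  exact X_le_M (hi h1) (hi h2) (hi h3)

theorem M_comp (a : Fin 5) : M L (z ∘ σ) a = M L z (σ a) := by
  apply le_antisymm (M_comp_le z σ L a)
  have h1 := M_comp_le (z ∘ σ) σ⁻¹ L (σ a)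
  rw [comp_inv] at h1
  have e : ∀ a, σ⁻¹ (σ a) = a := fun a => σ.symm_apply_apply a
  rwa [e] at h1

theorem W_comp (a : Fin 5) : W L (z ∘ σ) a = W L z (σ a) := by
  rw [W, W, M_comp, V_comp]

end comp

theorem syl_cj' {T X : Subgroup G} (g : G) (h : Syl T X) : Syl (cj g T) (cj g X) := by
  refine ⟨cj_mono g h.1, h.2.1.map _, fun Q hQ hQ2 hTQ => ?_⟩
  have h1 : cj g⁻¹ Q = T := by
    refine h.2.2 _ ?_ (hQ2.map _) ?_
    · have := cj_mono g⁻¹ hQ
      rwa [cj_inv_cj] at this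
    · have := cj_mono g⁻¹ hTQ
      rwa [cj_inv_cj] at this
  rw [← h1, cj_cj_inv]

/-- **THEOREM M5's frame for another order of the letters.** -/
theorem Fr5.relabel [Finite G] {L T : Subgroup G} {z : Fin 5 → G} {g : G} {σ : Equiv.Perm (Fin 5)} (h : Fr5 L T z)
    (hg : Ind L z g σ) : Fr5 L (cj g T) (z ∘ σ) := by
  have hXe : X (z ∘ σ) 1 2 = cj g (X z 1 2) := by rw [X_comp, hg.X_eq]
  have hYe : Y L (z ∘ σ) 0 4 = cj g (Y L z 0 4) := by rw [Y_comp, hg.Y_eq]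
  have hNe : N L (z ∘ σ) 0 4 = cj g (N L z 0 4) := by rw [N_comp, hg.N_eq]
  have hWe : W L (z ∘ σ) 0 = cj g (W L z 0) := by rw [W_comp, hg.W_eq]
  refine
    { sq := fun a => h.sq _
      comm := fun a b => h.comm _ _
      prod := ?_
      inj := h.inj.comp σ.injective
      act := fun k hk => ?_
      full := fun π => ?_
      cv := by rw [range_comp_perm]; exact h.cv
      TL := ?_
      TX := by rw [hXe]; exact cj_mono g h.TX
      syl := by rw [hYe]; exact syl_cj' g h.syl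
      wab := by rw [hWe]; exact isElementaryAbelian_cj g h.wab
      cw := ?_
      no := ?_ }
  · change z (σ 0) = z (σ 1) * z (σ 2) * z (σ 3) * z (σ 4)
    rw [← hg.eq, ← hg.eq, ← hg.eq, ← hg.eq, ← hg.eq, h.prod]
    group
  · obtain ⟨π, hπ⟩ := h.act k hk
    refine ⟨σ⁻¹ * π * σ, fun a => ?_⟩
    change k * z (σ a) * k⁻¹ = z (σ (σ⁻¹ (π (σ a))))
    rw [hπ]
    exact congrArg z (σ.apply_symm_apply _).symm
  · obtain ⟨k, hk, hπ⟩ := h.full (σ * π * σ⁻¹)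
    refine ⟨k, hk, fun a => ?_⟩
    change k * z (σ a) * k⁻¹ = z (σ (π a))
    rw [hπ]
    change z (σ (π (σ⁻¹ (σ a)))) = z (σ (π a))
    exact congrArg (fun b => z (σ (π b))) (σ.symm_apply_apply a)
  · rintro _ ⟨x, hx, rfl⟩
    exact mul_mem (mul_mem hg.mem (h.TL hx)) (inv_mem hg.mem)
  · have h1 := cj_mono g h.cw
    rwa [cj_inf, cj_centralizer, cj_centralizer, ← hWe, ← hXe] at h1
  · intro A hA hAO
    rw [hXe, o2_cj] at hAO
    have h1 := h.no (cj g⁻¹ A) (isElementaryAbelian_cj g⁻¹ hA) (by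
      have := cj_mono g⁻¹ hAO
      rwa [cj_inv_cj] at this)
    rw [hNe]
    have h2 : (centralizer (N L z 0 4 : Set G)).relIndex (cj g⁻¹ A) =
        (centralizer (cj g (N L z 0 4) : Set G)).relIndex A := by
      rw [← relIndex_cj g, cj_cj_inv, cj_centralizer]
    have h3 : (centralizer (cj g⁻¹ A : Set G)).relIndex (N L z 0 4) =
        (centralizer (A : Set G)).relIndex (cj g (N L z 0 4)) := by
      rw [← relIndex_cj g, cj_centralizer, cj_cj_inv]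
    rwa [h2, h3] at h1

/-! ### The letters of `LightB` -/

open Cfsg.Agent.Omega.NTwo Cfsg.Agent.Omega.NO3S.Sym.Exit Cfsg.Agent.Omega.NO3S.Sym.Light
open Cfsg.Agent.Omega.NO3S (HypN)
open Cfsg.Agent.Omega.Node.MulG (StgG)

/-- the labels -/
def tau0 : Equiv.Perm (Fin 5) where
  toFun := ![0, 2, 3, 4, 1]
  invFun := ![0, 4, 1, 2, 3]
  left_inv := by decide
  right_inv := by decide

/-- `z 0 = p 0`, `z 1 = p 2`, `z 2 = p 3`, `z 3 = p 4`, `z 4 = p 1` -/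
def zf (p : Fin 5 → G) : Fin 5 → G := p ∘ tau0

theorem zf0 (p : Fin 5 → G) : zf p 0 = p 0 := rfl
theorem zf1 (p : Fin 5 → G) : zf p 1 = p 2 := rfl
theorem zf2 (p : Fin 5 → G) : zf p 2 = p 3 := rfl
theorem zf3 (p : Fin 5 → G) : zf p 3 = p 4 := rfl
theorem zf4 (p : Fin 5 → G) : zf p 4 = p 1 := rfl

theorem CC04 (p : Fin 5 → G) : CC (zf p) 0 4 = centralizer ({nn p} : Set G) := rfl

theorem CC12 (p : Fin 5 → G) : CC (zf p) 1 2 = centralizer ({aa p} : Set G) := rfl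

theorem DD_zf (p : Fin 5 → G) : DD (zf p) = centralizer ({nn p} : Set G) ⊓ centralizer ({aa p} : Set G) := rfl

theorem NB_zf (p : Fin 5 → G) : NB (zf p) 0 4 1 2 = nc (centralizer ({nn p} : Set G)) (zpowers (aa p)) := rfl

theorem mem_X12f {p : Fin 5 → G} {x : G} :
    x ∈ X (zf p) 1 2 ↔ x * p 0 = p 0 * x ∧ x * p 1 = p 1 * x ∧ x * p 4 = p 4 * x := by
  rw [mem_X]
  constructor
  · intro h
    exact ⟨h 0 (by decide) (by decide), h 4 (by decide) (by decide), h 3 (by decide) (by decide)⟩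
  · rintro ⟨h0, h1, h4⟩ k hk1 hk2
    have key : ∀ k : Fin 5, k ≠ 1 → k ≠ 2 → k = 0 ∨ k = 3 ∨ k = 4 := by decide
    rcases key k hk1 hk2 with rfl | rfl | rfl
    · exact h0
    · exact h4
    · exact h1

variable [Finite G] {S : Sylow 2 G} {P : Subgroup G} {p : Fin 5 → G}

section inst

variable (h : FiveL S P p)
include h

/-- all labellings of the five heavy vectors are conjugate -/
theorem exists_ind_zf : ∃ g, ∃ σ : Equiv.Perm (Fin 5),
    Ind (normalizer (zl (S : Subgroup G) P : Set G)) (Inst.zv p) g σ ∧ Inst.zv p ∘ σ = zf p := by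
  obtain ⟨g, hg, h1⟩ := Inst.full_L h (Inst.rho⁻¹ * tau0)
  refine ⟨g, _, ⟨hg, h1⟩, ?_⟩
  funext a
  exact congrArg p (Inst.rho.apply_symm_apply (tau0 a))

/-- `X_12` in the two labellings -/
theorem X_zf_le : X (zf p) 1 2 ≤ normalizer (zl (S : Subgroup G) P : Set G) ↔
    X (Inst.zv p) 1 2 ≤ normalizer (zl (S : Subgroup G) P : Set G) := by
  obtain ⟨g, σ, hg, e⟩ := exists_ind_zf h
  have h1 : X (zf p) 1 2 = cj g (X (Inst.zv p) 1 2) := by rw [← e, X_comp, hg.X_eq]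
  have h2 : cj g (normalizer (zl (S : Subgroup G) P : Set G)) = normalizer (zl (S : Subgroup G) P : Set G) :=
    cj_eq_of_mem_normalizer (le_normalizer hg.mem)
  constructor
  · intro h3
    have h4 := cj_mono g⁻¹ h3
    rw [h1, cj_inv_cj] at h4
    refine h4.trans ?_
    rw [← h2, cj_inv_cj]
    exact h2.ge
  · intro h3
    have h4 := cj_mono g h3
    rwa [← h1, h2] at h4

/-- **The frame of THEOREM M5 in the letters `zf p`.** -/
theorem exists_fr5 (hML : ML.Final.MLK.{u, u}) (hz : Cfsg.Agent.ZN.zc (o2 P) = zl (S : Subgroup G) P)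
    (hX : ¬ X (zf p) 1 2 ≤ normalizer (zl (S : Subgroup G) P : Set G)) :
    ∃ T, Fr5 (normalizer (zl (S : Subgroup G) P : Set G)) T (zf p) := by
  rw [X_zf_le h] at hX
  obtain ⟨g, σ, hg, e⟩ := exists_ind_zf h
  have h1 := ((Inst.pre h hML hz hX).fr5 hX).relabel hg
  rw [e] at h1
  exact ⟨_, h1⟩

theorem sylB : Syl (Std.T (S : Subgroup G) p) (CC (zf p) 0 4) := LightB.syl h

theorem BC : Std.T (S : Subgroup G) p ≤ CC (zf p) 1 2 := LightB.T_le_Ca h.toFive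

/-- `⟨a^C(n)⟩ ≤ D_n` -/
theorem NB_le : NB (zf p) 0 4 1 2 ≤ Sym.Light.DD (zl (S : Subgroup G) P) (nn p) := by
  rw [NB_zf]
  exact nc_le (zpowers_le.2 (LightB.a_mem_DD h)) LightB.norm_DD

theorem NB_le_o2 : NB (zf p) 0 4 1 2 ≤ o2 (CC (zf p) 0 4) := (NB_le h).trans h.DD_le_o2

theorem p2 : IsPGroup 2 (NB (zf p) 0 4 1 2) := (ChoiceSit.isPGroup_o2 _).to_le (NB_le_o2 h)

theorem N_le_o2D : NB (zf p) 0 4 1 2 ≤ o2 (DD (zf p)) := (NB_le h).trans (LightB.DD_le_o2D h)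

/-- `U_z = ⟨V^C(z)⟩`, `z = p 4`, is abelian -/
theorem U_comm : Sym.Light.DD (zl (S : Subgroup G) P) (p 4) ≤
    centralizer (Sym.Light.DD (zl (S : Subgroup G) P) (p 4) : Set G) :=
  NoFF.Basic.comm_mono h.W_comm h.toFive.W_le_CC h.toFive.W_le_CC

theorem U_sq : ∀ x ∈ Sym.Light.DD (zl (S : Subgroup G) P) (p 4), x ^ 2 = 1 := fun x hx =>
  h.toHyp.W_sq x (h.toFive.W_le_CC hx)

theorem DD_le_cent : DD (zf p) ≤ centralizer ({p 4} : Set G) := by
  rintro x ⟨h1, h2⟩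
  have h1' : x * nn p * x⁻¹ = nn p := mem_cent.1 h1
  have h2' : x * aa p * x⁻¹ = aa p := mem_cent.1 h2
  rw [mem_cent, ← h.std.na, cm, h1', h2']

/-- **`U_z ≤ O₂(D)`** -/
theorem U_le_o2D : Sym.Light.DD (zl (S : Subgroup G) P) (p 4) ≤ o2 (DD (zf p)) := by
  refine ChoiceSit.le_o2 ?_ ?_ ((DD_le_cent h).trans cent_le_normalizer_DD)
  · rintro ⟨x, hx⟩
    exact ⟨1, Subtype.ext (by simpa using U_sq h x hx)⟩
  · intro x hx
    refine ⟨?_, ?_⟩
    · exact mem_centralizer_singleton_iff.2 (mem_centralizer_iff.1 (U_comm h hx) _ (le_DD h.n_mem)).symm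
    · exact mem_centralizer_singleton_iff.2 (mem_centralizer_iff.1 (U_comm h hx) _ (le_DD h.a_mem)).symm

theorem V_zf : V (zf p) = zl (S : Subgroup G) P := by
  rw [V, zf, range_comp_perm, h.gen]

theorem W_le_U : W (normalizer (zl (S : Subgroup G) P : Set G)) (zf p) 3 ≤
    Sym.Light.DD (zl (S : Subgroup G) P) (p 4) := by
  rw [W, V_zf h]
  exact nc_le le_DD ((M_le _ _ 3).trans cent_le_normalizer_DD)

/-- `W_3 ≤ O₂(D)` -/
theorem w3 : W (normalizer (zl (S : Subgroup G) P : Set G)) (zf p) 3 ≤ o2 (DD (zf p)) := (W_le_U h).trans (U_le_o2D h)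

/-- **The frame of the last case.** -/
theorem failHyp (hML : ML.Final.MLK.{u, u}) (hz : Cfsg.Agent.ZN.zc (o2 P) = zl (S : Subgroup G) P)
    (hX : ¬ X (zf p) 1 2 ≤ normalizer (zl (S : Subgroup G) P : Set G))
    (jV : ∀ A ∈ AA (o2 (DD (zf p))), A ≤ centralizer (zl (S : Subgroup G) P : Set G))
    (fail : ∀ A ∈ AA (o2 (DD (zf p))),
      A ≤ centralizer (N (normalizer (zl (S : Subgroup G) P : Set G)) (zf p) 0 4 : Set G) →
      A ≤ centralizer (NB (zf p) 0 4 1 2 : Set G)) :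
    ∃ T, FailHyp (normalizer (zl (S : Subgroup G) P : Set G)) T (Std.T (S : Subgroup G) p) (zf p) := by
  obtain ⟨T, hT⟩ := exists_fr5 h hML hz hX
  refine ⟨T, hT, sylB h, BC h, p2 h, fun A hA => ?_, fail⟩
  have h1 := jV A hA
  rwa [← V_zf h, V, centralizer_closure] at h1

end inst

end Cfsg.Agent.Omega.NO3S.MFive
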