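import Cfsg.Agent.Omega.NO3S.MFive.Frame
import Cfsg.Agent.Omega.EDel.QP
import Cfsg.Agent.Omega.ESym.CoreS

/-!
# THEOREM M5 (helper693 #24218): conjugation, the groups `Y_03`, `Y_04`, `M_0`
-/

set_option autoImplicit false
set_option linter.unusedSectionVars false
set_option linter.unusedVariables false

namespace Cfsg.Agent.Omega.NO3S.MFive

open Subgroup Cfsg Cfsg.Agent.ZN Cfsg.Agent.ZN.ChoiceBase
open Cfsg.Agent.ZN.ChoiceSit
open Cfsg.Agent.Omega.NO3S.EThree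
open Cfsg.Agent.Omega.NO3S.EThree.ExactA (eab_mono eab_sup eab_iff)
open Cfsg.Agent.Omega.EK3.Rank (NoOn mem_inf_of_mem_AA jj_inf_le offd_of_mem)
open Cfsg.Agent.Omega.EK3.Lever (Dt)
open scoped commutatorElement

universe u

variable {G : Type u} [Group G]

/-! ### Permutations of five letters -/

theorem perm_step (τ : Equiv.Perm (Fin 5)) (w w' : Fin 5) :
    ∃ τ' : Equiv.Perm (Fin 5), τ' w = w' ∧ ∀ x, x ≠ w → τ x ≠ w' → τ' x = τ x := by
  refine ⟨Equiv.swap (τ w) w' * τ, ?_, fun x hx hx' => ?_⟩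
  · rw [Equiv.Perm.mul_apply, Equiv.swap_apply_left]
  · rw [Equiv.Perm.mul_apply, Equiv.swap_apply_of_ne_of_ne (fun e => hx (τ.injective e)) hx']

theorem perm_two {a b a' b' : Fin 5} (h : a ≠ b) (h' : a' ≠ b') :
    ∃ τ : Equiv.Perm (Fin 5), τ a = a' ∧ τ b = b' := by
  obtain ⟨τ, h1, -⟩ := perm_step 1 a a'
  obtain ⟨τ', h2, h3⟩ := perm_step τ b b'
  exact ⟨τ', by rw [h3 a h (by rw [h1]; exact h'), h1], h2⟩

theorem perm_three {a b c a' b' c' : Fin 5} (h : a ≠ b) (hc : a ≠ c) (hbc : b ≠ c) (h' : a' ≠ b')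
    (hc' : a' ≠ c') (hbc' : b' ≠ c') : ∃ τ : Equiv.Perm (Fin 5), τ a = a' ∧ τ b = b' ∧ τ c = c' := by
  obtain ⟨τ, h1, h2⟩ := perm_two h h'
  obtain ⟨τ', h3, h4⟩ := perm_step τ c c'
  exact ⟨τ', by rw [h4 a hc (by rw [h1]; exact hc'), h1], by rw [h4 b hbc (by rw [h2]; exact hbc'), h2], h3⟩

theorem perm_four {a b c d a' b' c' d' : Fin 5} (h : a ≠ b) (hc : a ≠ c) (hbc : b ≠ c) (had : a ≠ d)
    (hbd : b ≠ d) (hcd : c ≠ d) (h' : a' ≠ b')
    (hc' : a' ≠ c') (hbc' : b' ≠ c') (had' : a' ≠ d') (hbd' : b' ≠ d') (hcd' : c' ≠ d') :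
    ∃ τ : Equiv.Perm (Fin 5), τ a = a' ∧ τ b = b' ∧ τ c = c' ∧ τ d = d' := by
  obtain ⟨τ, h1, h2, h3⟩ := perm_three h hc hbc h' hc' hbc'
  obtain ⟨τ', h4, h5⟩ := perm_step τ d d'
  exact ⟨τ', by rw [h5 a had (by rw [h1]; exact had'), h1], by rw [h5 b hbd (by rw [h2]; exact hbd'), h2],
    by rw [h5 c hcd (by rw [h3]; exact hcd'), h3], h4⟩

/-! ### `⟨K^H⟩` -/

theorem cj_nc (g : G) (H K : Subgroup G) : cj g (nc H K) = nc (cj g H) (cj g K) := by
  have key : ∀ (g : G) (H K : Subgroup G), cj g (nc H K) ≤ nc (cj g H) (cj g K) := by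
    intro g H K
    unfold nc
    rw [cj, Subgroup.map_iSup]
    refine iSup_le fun x => ?_
    have e : Subgroup.map (MulAut.conj g).toMonoidHom (cj (x : G) K) = cj (g * x * g⁻¹) (cj g K) := by
      have h1 := cj_cj g x K
      rw [cj_cj]
      have : g * (x : G) * g⁻¹ * g = g * x := by group
      rw [this]
      exact h1
    rw [e]
    exact le_iSup (fun y : (cj g H : Subgroup G) => cj (y : G) (cj g K)) ⟨g * x * g⁻¹, ⟨x, x.2, rfl⟩⟩
  refine le_antisymm (key g H K) ?_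
  have h1 := cj_mono g (key g⁻¹ (cj g H) (cj g K))
  rwa [cj_cj_inv, cj_inv_cj, cj_inv_cj] at h1

theorem le_nc (H K : Subgroup G) : K ≤ nc H K := by
  have h1 := le_iSup (fun y : H => cj (y : G) K) 1
  simp only [OneMemClass.coe_one, cj_one] at h1
  exact h1

theorem cj_le_nc {H K : Subgroup G} {h : G} (hh : h ∈ H) : cj h K ≤ nc H K :=
  le_iSup (fun y : H => cj (y : G) K) ⟨h, hh⟩

theorem nc_norm (H K : Subgroup G) : H ≤ normalizer (nc H K : Set G) := by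
  intro x hx
  rw [mem_normalizer_iff_cj, nc, cj, Subgroup.map_iSup]
  refine le_antisymm (iSup_le fun y => ?_) (iSup_le fun y => ?_)
  · have e : Subgroup.map (MulAut.conj x).toMonoidHom (cj (y : G) K) = cj (x * y : G) K := cj_cj x y K
    rw [e]
    exact cj_le_nc (mul_mem hx y.2)
  · have h1 : cj (x⁻¹ * y : G) K ≤ nc H K := cj_le_nc (mul_mem (inv_mem hx) y.2)
    have h2 : Subgroup.map (MulAut.conj x).toMonoidHom (cj (x⁻¹ * y : G) K) = cj (y : G) K := by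
      have := cj_cj x (x⁻¹ * y) K
      rw [mul_inv_cancel_left] at this
      exact this
    rw [← h2]
    exact le_iSup (fun z : H => Subgroup.map (MulAut.conj x).toMonoidHom (cj (z : G) K))
      ⟨x⁻¹ * y, mul_mem (inv_mem hx) y.2⟩

theorem nc_le {H K R : Subgroup G} (hK : K ≤ R) (hH : H ≤ normalizer (R : Set G)) : nc H K ≤ R :=
  iSup_le fun y => (cj_mono (y : G) hK).trans (cj_eq_of_mem_normalizer (hH y.2)).le

theorem nc_mono {H H' K K' : Subgroup G} (hH : H ≤ H') (hK : K ≤ K') : nc H K ≤ nc H' K' :=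
  nc_le (hK.trans (le_nc _ _)) (hH.trans (nc_norm _ _))

theorem norm_sup {R R' : Subgroup G} {x : G} (h : x ∈ normalizer (R : Set G)) (h' : x ∈ normalizer (R' : Set G)) :
    x ∈ normalizer ((R ⊔ R' : Subgroup G) : Set G) := by
  rw [mem_normalizer_iff_cj, cj, Subgroup.map_sup]
  have h1 := cj_eq_of_mem_normalizer h
  have h2 := cj_eq_of_mem_normalizer h'
  rw [cj] at h1 h2
  rw [h1, h2]

/-! ### Conjugation by elements inducing a permutation of the letters -/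

/-- `g ∈ L` induces `σ` -/
structure Ind (L : Subgroup G) (z : Fin 5 → G) (g : G) (σ : Equiv.Perm (Fin 5)) : Prop where
  mem : g ∈ L
  eq : ∀ a, g * z a * g⁻¹ = z (σ a)

section ind

variable {L : Subgroup G} {z : Fin 5 → G} {g : G} {σ : Equiv.Perm (Fin 5)}

theorem Ind.inv (h : Ind L z g σ) : Ind L z g⁻¹ σ⁻¹ where
  mem := inv_mem h.mem
  eq := fun a => by
    have h1 := h.eq (σ⁻¹ a)
    have e : σ (σ⁻¹ a) = a := by simp
    rw [e] at h1
    rw [← h1]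
    group

theorem Ind.one : Ind L z 1 1 where
  mem := one_mem _
  eq := fun a => by simp

theorem Ind.mul {g' : G} {σ' : Equiv.Perm (Fin 5)} (h : Ind L z g σ) (h' : Ind L z g' σ') :
    Ind L z (g * g') (σ * σ') where
  mem := mul_mem h.mem h'.mem
  eq := fun a => by
    rw [Equiv.Perm.mul_apply, ← h.eq, ← h'.eq]
    group

theorem Ind.X_le (h : Ind L z g σ) (i j : Fin 5) : cj g (X z i j) ≤ X z (σ i) (σ j) := by
  rintro _ ⟨x, hx, rfl⟩
  change g * x * g⁻¹ ∈ _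
  rw [X, mem_centralizer_iff]
  rintro _ ⟨k, hk1, hk2, rfl⟩
  have e : z k = g * z (σ⁻¹ k) * g⁻¹ := by rw [h.eq]; simp
  have h1 : z (σ⁻¹ k) * x = x * z (σ⁻¹ k) := by
    refine mem_centralizer_iff.1 hx _ ⟨σ⁻¹ k, ?_, ?_, rfl⟩
    · rintro rfl
      exact hk1 (by simp)
    · rintro rfl
      exact hk2 (by simp)
  rw [e]
  calc g * z (σ⁻¹ k) * g⁻¹ * (g * x * g⁻¹) = g * (z (σ⁻¹ k) * x) * g⁻¹ := by group
    _ = g * (x * z (σ⁻¹ k)) * g⁻¹ := by rw [h1]
    _ = g * x * g⁻¹ * (g * z (σ⁻¹ k) * g⁻¹) := by group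

/-- a function `F` of two letters with `cj g (F a b) ≤ F (σ a) (σ b)` for all `g`, `σ` -/
theorem eq_of_le {F : Fin 5 → Fin 5 → Subgroup G}
    (hF : ∀ g σ, Ind L z g σ → ∀ a b, cj g (F a b) ≤ F (σ a) (σ b)) (h : Ind L z g σ) (a b : Fin 5) :
    cj g (F a b) = F (σ a) (σ b) := by
  refine le_antisymm (hF g σ h a b) ?_
  have h1 := cj_mono g (hF g⁻¹ σ⁻¹ h.inv (σ a) (σ b))
  rw [cj_cj_inv] at h1
  simpa using h1

theorem Ind.X_eq (h : Ind L z g σ) (i j : Fin 5) : cj g (X z i j) = X z (σ i) (σ j) :=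
  eq_of_le (F := X z) (fun g σ h => h.X_le) h i j

theorem cj_closure (g : G) (s : Set G) : cj g (closure s) = closure ((fun x => g * x * g⁻¹) '' s) := by
  rw [cj, MonoidHom.map_closure]
  rfl

theorem Ind.Zc_le (h : Ind L z g σ) (a b : Fin 5) : cj g (Zc z a b) ≤ Zc z (σ a) (σ b) := by
  rw [Zc, cj_closure]
  refine (closure_le _).2 ?_
  rintro _ ⟨_, ⟨c, h1, h2, rfl⟩, rfl⟩
  refine subset_closure ⟨σ c, fun e => h1 (σ.injective e), fun e => h2 (σ.injective e), h.eq c⟩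

theorem Ind.Zc_eq (h : Ind L z g σ) (a b : Fin 5) : cj g (Zc z a b) = Zc z (σ a) (σ b) :=
  eq_of_le (F := Zc z) (fun g σ h => h.Zc_le) h a b

theorem Ind.V_le (h : Ind L z g σ) : cj g (V z) ≤ V z := by
  rw [V, cj_closure]
  refine (closure_le _).2 ?_
  rintro _ ⟨_, ⟨c, rfl⟩, rfl⟩
  exact subset_closure ⟨σ c, (h.eq c).symm⟩

theorem Ind.V_eq (h : Ind L z g σ) : cj g (V z) = V z :=
  eq_of_le (F := fun _ _ => V z) (fun g σ h _ _ => h.V_le) h 0 0

theorem Ind.cl_le (h : Ind L z g σ) (a b : Fin 5) :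
    cj g (L ⊓ centralizer {z a, z b}) ≤ L ⊓ centralizer {z (σ a), z (σ b)} := by
  rintro _ ⟨x, hx0, rfl⟩
  obtain ⟨hxL, hx⟩ := mem_inf.1 hx0
  change g * x * g⁻¹ ∈ _
  refine mem_inf.2 ⟨mul_mem (mul_mem h.mem hxL) (inv_mem h.mem), ?_⟩
  rw [mem_centralizer_iff] at *
  have key : ∀ c, z c * x = x * z c → z (σ c) * (g * x * g⁻¹) = g * x * g⁻¹ * z (σ c) := by
    intro c hc
    rw [← h.eq]
    calc g * z c * g⁻¹ * (g * x * g⁻¹) = g * (z c * x) * g⁻¹ := by group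
      _ = g * (x * z c) * g⁻¹ := by rw [hc]
      _ = g * x * g⁻¹ * (g * z c * g⁻¹) := by group
  rintro y (rfl | hy)
  · exact key _ (hx _ (Set.mem_insert _ _))
  · rw [Set.mem_singleton_iff] at hy
    subst hy
    exact key _ (hx _ (Set.mem_insert_of_mem _ rfl))

theorem Ind.Y_le (h : Ind L z g σ) (a b : Fin 5) : cj g (Y L z a b) ≤ Y L z (σ a) (σ b) := by
  rw [Y, cj, Subgroup.map_sup]
  refine sup_le ((h.cl_le a b).trans le_sup_left) ?_
  simp only [Subgroup.map_iSup]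
  refine iSup_le fun k => iSup_le fun l => iSup_le fun hkl => ?_
  refine (h.X_le k l).trans (le_sup_of_le_right ?_)
  refine le_iSup_of_le (σ k) (le_iSup_of_le (σ l) (le_iSup_of_le ?_ le_rfl))
  simpa using hkl

theorem Ind.Y_eq (h : Ind L z g σ) (a b : Fin 5) : cj g (Y L z a b) = Y L z (σ a) (σ b) :=
  eq_of_le (F := Y L z) (fun g σ h => h.Y_le) h a b

theorem Ind.N_eq (h : Ind L z g σ) (a b : Fin 5) : cj g (N L z a b) = N L z (σ a) (σ b) := by
  rw [N, cj_nc, h.Y_eq, h.Zc_eq, N]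

theorem Ind.M_le (h : Ind L z g σ) (a : Fin 5) : cj g (M L z a) ≤ M L z (σ a) := by
  rw [M, cj, Subgroup.map_sup]
  refine sup_le ?_ ?_
  · have h1 := h.cl_le a a
    simp only [Set.mem_singleton_iff, Set.insert_eq_of_mem] at h1
    exact h1.trans le_sup_left
  · simp only [Subgroup.map_iSup]
    refine iSup_le fun k => iSup_le fun l => iSup_le fun hkl => ?_
    refine (h.X_le k l).trans (le_sup_of_le_right ?_)
    refine le_iSup_of_le (σ k) (le_iSup_of_le (σ l) (le_iSup_of_le ?_ le_rfl))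
    simpa using hkl

theorem Ind.M_eq (h : Ind L z g σ) (a : Fin 5) : cj g (M L z a) = M L z (σ a) :=
  eq_of_le (F := fun a _ => M L z a) (fun g σ h a _ => h.M_le a) h a a

theorem Ind.W_eq (h : Ind L z g σ) (a : Fin 5) : cj g (W L z a) = W L z (σ a) := by
  rw [W, cj_nc, h.M_eq, h.V_eq, W]

end ind

end Cfsg.Agent.Omega.NO3S.MFive
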