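import Cfsg.Agent.Omega.NO3S.MFive.Basic

/-!
# THEOREM M5 (helper693 #24218): the frame `(12; 0 | 3, 4)`
-/

set_option autoImplicit false
set_option linter.unusedSectionVars false
set_option linter.unusedVariables false

namespace Cfsg.Agent.Omega.NO3S.MFive

open Subgroup Cfsg Cfsg.Agent.ZN Cfsg.Agent.ZN.ChoiceBase
open Cfsg.Agent.ZN.ChoiceSit
open Cfsg.Agent.Omega.NO3S.EThree
open Cfsg.Agent.Omega.NO3S.EThree.ExactA (eab_mono eab_sup eab_iff)
open Cfsg.Agent.Omega.EK3.Rank (NoOn mem_inf_of_mem_AA jj_inf_le offd_of_mem)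
open Cfsg.Agent.Omega.EK3.Lever (Dt)
open scoped commutatorElement

universe u

variable {G : Type u} [Group G]

/-! ### Members -/

section mem

variable {L : Subgroup G} {z : Fin 5 → G}

theorem z_mem_V (a : Fin 5) : z a ∈ V z := subset_closure ⟨a, rfl⟩

theorem z_mem_Zc {a b c : Fin 5} (h1 : c ≠ a) (h2 : c ≠ b) : z c ∈ Zc z a b := subset_closure ⟨c, h1, h2, rfl⟩

theorem mem_X_iff {i j : Fin 5} {x : G} : x ∈ X z i j ↔ ∀ k, k ≠ i → k ≠ j → z k * x = x * z k := by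
  rw [X, mem_centralizer_iff]
  constructor
  · exact fun h k h1 h2 => h _ ⟨k, h1, h2, rfl⟩
  · rintro h _ ⟨k, h1, h2, rfl⟩
    exact h k h1 h2

theorem X_le_Y {a b k l : Fin 5} (h : k ≠ l) (h1 : k ≠ a) (h2 : k ≠ b) (h3 : l ≠ a) (h4 : l ≠ b) :
    X z k l ≤ Y L z a b :=
  le_sup_of_le_right (le_iSup_of_le k (le_iSup_of_le l (le_iSup_of_le ⟨h, ⟨h1, h2⟩, h3, h4⟩ le_rfl)))

theorem X_le_Mij {a k l : Fin 5} (h : k ≠ l) (h1 : k ≠ a) (h3 : l ≠ a) : X z k l ≤ M L z a :=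
  le_sup_of_le_right (le_iSup_of_le k (le_iSup_of_le l (le_iSup_of_le ⟨h, h1, h3⟩ le_rfl)))

theorem cl_le_Y (a b : Fin 5) : L ⊓ centralizer {z a, z b} ≤ Y L z a b := le_sup_left

theorem cl_le_M (a : Fin 5) : L ⊓ centralizer {z a} ≤ M L z a := le_sup_left

theorem Y_le_M_left (a b : Fin 5) : Y L z a b ≤ M L z a := by
  refine sup_le ((inf_le_inf_left _ (centralizer_le ?_)).trans (cl_le_M a)) ?_
  · intro x hx
    rw [Set.mem_singleton_iff] at hx
    exact hx ▸ Set.mem_insert _ _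
  · exact iSup_le fun k => iSup_le fun l => iSup_le fun h => X_le_Mij h.1 h.2.1.1 h.2.2.1

theorem Y_symm (a b : Fin 5) : Y L z a b ≤ Y L z b a := by
  refine sup_le ((inf_le_inf_left _ (le_of_eq ?_)).trans (cl_le_Y b a)) ?_
  · rw [Set.pair_comm]
  · exact iSup_le fun k => iSup_le fun l => iSup_le fun h => X_le_Y h.1 h.2.1.2 h.2.1.1 h.2.2.2 h.2.2.1

theorem Y_comm (a b : Fin 5) : Y L z a b = Y L z b a := le_antisymm (Y_symm a b) (Y_symm b a)

theorem Y_le_M_right (a b : Fin 5) : Y L z a b ≤ M L z b := (Y_symm a b).trans (Y_le_M_left b a)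

theorem Zc_le_V (a b : Fin 5) : Zc z a b ≤ V z := by
  refine (closure_le _).2 ?_
  rintro _ ⟨c, -, -, rfl⟩
  exact z_mem_V c

theorem N_le_W_left (a b : Fin 5) : N L z a b ≤ W L z a := nc_mono (Y_le_M_left a b) (Zc_le_V a b)

theorem N_le_W_right (a b : Fin 5) : N L z a b ≤ W L z b := nc_mono (Y_le_M_right a b) (Zc_le_V a b)

theorem z_mem_N {a b c : Fin 5} (h1 : c ≠ a) (h2 : c ≠ b) : z c ∈ N L z a b := le_nc _ _ (z_mem_Zc h1 h2)

theorem V_le_W (a : Fin 5) : V z ≤ W L z a := le_nc _ _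

theorem Y_norm_N (a b : Fin 5) : Y L z a b ≤ normalizer (N L z a b : Set G) := nc_norm _ _

theorem M_norm_W (a : Fin 5) : M L z a ≤ normalizer (W L z a : Set G) := nc_norm _ _

end mem

variable {L T : Subgroup G} {z : Fin 5 → G}

section frame

variable (h : Fr5 L T z)
include h

theorem Fr5.ind (σ : Equiv.Perm (Fin 5)) : ∃ g, Ind L z g σ := by
  obtain ⟨g, h1, h2⟩ := h.full σ
  exact ⟨g, h1, h2⟩

theorem Fr5.ind_of {g : G} (hg : g ∈ L) : ∃ σ, Ind L z g σ := by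
  obtain ⟨σ, h1⟩ := h.act g hg
  exact ⟨σ, hg, h1⟩

theorem Fr5.fix {g : G} {σ : Equiv.Perm (Fin 5)} (hg : Ind L z g σ) {a : Fin 5} (ha : z a * g = g * z a) :
    σ a = a := by
  apply h.inj
  rw [← hg.eq, ← ha]
  group

omit h in
theorem Ind.comm_of {g : G} {σ : Equiv.Perm (Fin 5)} (hg : Ind L z g σ) {a : Fin 5} (ha : σ a = a) :
    z a * g = g * z a := by
  have := hg.eq a
  rw [ha] at this
  exact (mul_inv_eq_iff_eq_mul.1 this).symm

omit h in
theorem Ind.mem_cl {g : G} {σ : Equiv.Perm (Fin 5)} (hg : Ind L z g σ) {a b : Fin 5} (ha : σ a = a)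
    (hb : σ b = b) : g ∈ L ⊓ centralizer {z a, z b} := by
  refine mem_inf.2 ⟨hg.mem, mem_centralizer_iff.2 ?_⟩
  rintro y (rfl | hy)
  · exact hg.comm_of ha
  · rw [Set.mem_singleton_iff] at hy
    subst hy
    exact hg.comm_of hb

omit h in
theorem mem_cl_iff {g : G} {a b : Fin 5} :
    g ∈ L ⊓ centralizer {z a, z b} ↔ g ∈ L ∧ z a * g = g * z a ∧ z b * g = g * z b := by
  rw [mem_inf, mem_centralizer_iff]
  constructor
  · exact fun hh => ⟨hh.1, hh.2 _ (Set.mem_insert _ _), hh.2 _ (Set.mem_insert_of_mem _ rfl)⟩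
  · rintro ⟨h1, h2, h3⟩
    refine ⟨h1, ?_⟩
    rintro y (rfl | hy)
    · exact h2
    · rw [Set.mem_singleton_iff] at hy
      subst hy
      exact h3

/-- an element of `L` fixing `z_0`, `z_3`, `z_4` lies in `X_12` -/
theorem mem_X12 {g : G} (h0 : z 0 * g = g * z 0) (h3 : z 3 * g = g * z 3) (h4 : z 4 * g = g * z 4) :
    g ∈ X z 1 2 := by
  rw [mem_X_iff]
  intro k h1 h2
  fin_cases k
  · exact h0
  · exact absurd rfl h1
  · exact absurd rfl h2
  · exact h3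
  · exact h4

theorem Fr5.C_le_X (i j : Fin 5) : centralizer (Set.range z) ≤ X z i j := by
  refine centralizer_le ?_
  rintro _ ⟨k, -, -, rfl⟩
  exact ⟨k, rfl⟩

omit h in
theorem Y_le_cent (a b : Fin 5) : Y L z a b ≤ centralizer {z a, z b} := by
  refine sup_le inf_le_right (iSup_le fun k => iSup_le fun l => iSup_le fun hh => ?_)
  intro x hx
  rw [mem_X_iff] at hx
  rw [mem_centralizer_iff]
  rintro y (rfl | hy)
  · exact hx _ hh.2.1.1.symm hh.2.2.1.symm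
  · rw [Set.mem_singleton_iff] at hy
    subst hy
    exact hx _ hh.2.1.2.symm hh.2.2.2.symm

theorem Fr5.Y04_cent {x : G} (hx : x ∈ Y L z 0 4) (h3 : z 3 * x = x * z 3) : x ∈ X z 1 2 := by
  have h1 := mem_centralizer_iff.1 (Y_le_cent 0 4 hx)
  exact mem_X12 h (h1 _ (Set.mem_insert _ _)) h3 (h1 _ (Set.mem_insert_of_mem _ rfl))

/-- `M_0 = ⟨Y_03, Y_04⟩` -/
theorem Fr5.M_le : M L z 0 ≤ Y L z 0 3 ⊔ Y L z 0 4 := by
  have hcl : L ⊓ centralizer {z 0} ≤ Y L z 0 3 ⊔ Y L z 0 4 := by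
    intro g hg
    obtain ⟨hgL, hg0⟩ := mem_inf.1 hg
    rw [mem_centralizer_iff] at hg0
    obtain ⟨σ, hσ⟩ := h.ind_of hgL
    have h0 : σ 0 = 0 := h.fix hσ (hg0 _ rfl)
    -- `τ` fixes `0` and `4`, `τ (σ 3) = 3`
    have key : ∀ (g : G) (σ : Equiv.Perm (Fin 5)), Ind L z g σ → σ 0 = 0 → σ 3 ≠ 4 → g ∈ Y L z 0 3 ⊔ Y L z 0 4 := by
      intro g σ hσ h0 h3
      have h30 : σ 3 ≠ 0 := fun e => by
        have := σ.injective (e.trans h0.symm)
        exact absurd this (by decide)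
      obtain ⟨τ, t0, t4, t3⟩ := perm_three (a := 0) (b := 4) (c := σ 3) (a' := 0) (b' := 4) (c' := 3) (by decide)
        h30.symm h3.symm (by decide) (by decide) (by decide)
      obtain ⟨y, hy⟩ := h.ind τ
      have h1 : y * g ∈ Y L z 0 3 ⊔ Y L z 0 4 := by
        refine mem_sup_left (cl_le_Y 0 3 ((hy.mul hσ).mem_cl ?_ ?_))
        · rw [Equiv.Perm.mul_apply, h0, t0]
        · rw [Equiv.Perm.mul_apply, t3]
      have h2 : y ∈ Y L z 0 3 ⊔ Y L z 0 4 := mem_sup_right (cl_le_Y 0 4 (hy.mem_cl t0 t4))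
      have h3 := mul_mem (inv_mem h2) h1
      rwa [inv_mul_cancel_left] at h3
    by_cases h3 : σ 3 = 4
    · obtain ⟨τ, t0, t3, t4⟩ := perm_three (a := 0) (b := 3) (c := 4) (a' := 0) (b' := 3) (c' := 1) (by decide)
        (by decide) (by decide) (by decide) (by decide) (by decide)
      obtain ⟨y, hy⟩ := h.ind τ
      have h1 : y * g ∈ Y L z 0 3 ⊔ Y L z 0 4 := by
        refine key _ _ (hy.mul hσ) ?_ ?_
        · rw [Equiv.Perm.mul_apply, h0, t0]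
        · rw [Equiv.Perm.mul_apply, h3, t4]
          decide
      have h2 : y ∈ Y L z 0 3 ⊔ Y L z 0 4 := mem_sup_left (cl_le_Y 0 3 (hy.mem_cl t0 t3))
      have h3 := mul_mem (inv_mem h2) h1
      rwa [inv_mul_cancel_left] at h3
    · exact key g σ hσ h0 h3
  refine sup_le hcl (iSup_le fun k => iSup_le fun l => iSup_le fun hh => ?_)
  -- `X_kl` is conjugate to `X_12` under `C_L(z_0)`
  obtain ⟨τ, t0, t1, t2⟩ := perm_three (a := 0) (b := 1) (c := 2) (a' := 0) (b' := k) (c' := l) (by decide)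
    (by decide) (by decide) hh.2.1.symm hh.2.2.symm hh.1
  obtain ⟨y, hy⟩ := h.ind τ
  have h1 : y ∈ Y L z 0 3 ⊔ Y L z 0 4 := by
    apply hcl
    refine mem_inf.2 ⟨hy.mem, mem_centralizer_iff.2 ?_⟩
    rintro _ rfl
    exact hy.comm_of t0
  have h2 := hy.X_eq 1 2
  rw [t1, t2] at h2
  rw [← h2]
  have h3 : X z 1 2 ≤ Y L z 0 3 ⊔ Y L z 0 4 :=
    (X_le_Y (by decide) (by decide) (by decide) (by decide) (by decide)).trans le_sup_left
  have h4 := cj_mono y h3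
  rwa [cj_eq_of_mem_normalizer (Subgroup.le_normalizer h1)] at h4

theorem Fr5.le_M : Y L z 0 3 ⊔ Y L z 0 4 ≤ M L z 0 := sup_le (Y_le_M_left 0 3) (Y_le_M_left 0 4)

theorem Fr5.X_le_Y03 : X z 1 2 ≤ Y L z 0 3 := X_le_Y (by decide) (by decide) (by decide) (by decide) (by decide)

theorem Fr5.X_le_Y04 : X z 1 2 ≤ Y L z 0 4 := X_le_Y (by decide) (by decide) (by decide) (by decide) (by decide)

/-- `g ∈ L` inducing `(34)` -/
theorem Fr5.swap : ∃ g σ, Ind L z g σ ∧ σ 0 = 0 ∧ σ 1 = 1 ∧ σ 2 = 2 ∧ σ 3 = 4 ∧ σ 4 = 3 := by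
  obtain ⟨g, hg⟩ := h.ind (Equiv.swap 3 4)
  exact ⟨g, _, hg, by decide, by decide, by decide, by decide, by decide⟩

theorem Fr5.z_ne (a : Fin 5) : z a ≠ 1 := by
  intro e
  have hall : ∀ b, z b = 1 := by
    intro b
    obtain ⟨τ, t1, -⟩ := perm_step 1 a b
    obtain ⟨y, hy⟩ := h.ind τ
    rw [← t1, ← hy.eq, e]
    group
  have := h.inj ((hall 0).trans (hall 1).symm)
  exact absurd this (by decide)

/-- `N_04 = ⟨z_3^(Y_04)⟩` -/
theorem Fr5.N04_le : N L z 0 4 ≤ nc (Y L z 0 4) (zpowers (z 3)) := by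
  refine nc_le ((closure_le _).2 ?_) (nc_norm _ _)
  rintro _ ⟨c, h1, h2, rfl⟩
  by_cases h3 : c = 3
  · rw [h3]
    exact le_nc _ _ (mem_zpowers _)
  obtain ⟨τ, t0, t4, t3⟩ := perm_three (a := 0) (b := 4) (c := 3) (a' := 0) (b' := 4) (c' := c) (by decide)
    (by decide) (by decide) (by decide) h1.symm h2.symm
  obtain ⟨y, hy⟩ := h.ind τ
  have h5 : y ∈ Y L z 0 4 := cl_le_Y 0 4 (hy.mem_cl t0 t4)
  have h6 : cj y (zpowers (z 3)) ≤ nc (Y L z 0 4) (zpowers (z 3)) := cj_le_nc h5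
  apply h6
  refine ⟨z 3, mem_zpowers _, ?_⟩
  change y * z 3 * y⁻¹ = z c
  rw [hy.eq, t3]

/-- `V_12 = ⟨z_0, z_3, z_4⟩` -/
theorem Fr5.V_le_nc : V z ≤ nc (M L z 0) (Zc z 1 2) := by
  refine (closure_le _).2 ?_
  rintro _ ⟨c, rfl⟩
  by_cases h1 : c ≠ 1 ∧ c ≠ 2
  · exact le_nc _ _ (z_mem_Zc h1.1 h1.2)
  have h0 : c ≠ 0 := by
    rintro rfl
    exact h1 ⟨by decide, by decide⟩
  obtain ⟨τ, t0, t3⟩ := perm_two (a := 0) (b := 3) (a' := 0) (b' := c) (by decide) h0.symm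
  obtain ⟨y, hy⟩ := h.ind τ
  have h5 : y ∈ M L z 0 := by
    apply cl_le_M
    refine mem_inf.2 ⟨hy.mem, mem_centralizer_iff.2 ?_⟩
    rintro _ rfl
    exact hy.comm_of t0
  have h6 : cj y (Zc z 1 2) ≤ nc (M L z 0) (Zc z 1 2) := cj_le_nc h5
  apply h6
  refine ⟨z 3, z_mem_Zc (by decide) (by decide), ?_⟩
  change y * z 3 * y⁻¹ = z c
  rw [hy.eq, t3]

theorem Fr5.X_cent_Zc : X z 1 2 ≤ centralizer (Zc z 1 2 : Set G) := by
  rw [Subgroup.le_centralizer_iff]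
  refine (closure_le _).2 ?_
  rintro _ ⟨c, h1, h2, rfl⟩
  rw [SetLike.mem_coe, mem_centralizer_iff]
  intro x hx
  exact (mem_X_iff.1 hx c h1 h2).symm

variable [Finite G]

theorem Fr5.W_abel : W L z 0 ≤ centralizer (W L z 0 : Set G) := (eab_iff.1 h.wab).1

theorem Fr5.W_two : IsPGroup 2 (W L z 0) := by
  intro x
  refine ⟨1, Subtype.ext ?_⟩
  have := (eab_iff.1 h.wab).2 x x.2
  simpa using this

theorem Fr5.X_le_M : X z 1 2 ≤ M L z 0 := (h.X_le_Y04).trans (Y_le_M_left 0 4)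

theorem Fr5.W_le_X : W L z 0 ≤ X z 1 2 := by
  intro x hx
  rw [mem_X_iff]
  intro k _ _
  exact mem_centralizer_iff.1 (h.W_abel hx) _ (V_le_W 0 (z_mem_V k))

/-- `E = W_0 ≤ O = O_2(X_12)` -/
theorem Fr5.W_le_O : W L z 0 ≤ o2 (X z 1 2) := ChoiceSit.le_o2 h.W_two h.W_le_X (h.X_le_M.trans (M_norm_W 0))

theorem Fr5.N04_le_W : N L z 0 4 ≤ W L z 0 := N_le_W_left 0 4

theorem Fr5.N03_le_W : N L z 0 3 ≤ W L z 0 := N_le_W_left 0 3

theorem Fr5.eab04 : IsElementaryAbelian 2 (N L z 0 4 : Subgroup G) := eab_mono h.wab h.N04_le_W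

theorem Fr5.eab03 : IsElementaryAbelian 2 (N L z 0 3 : Subgroup G) := eab_mono h.wab h.N03_le_W

theorem Fr5.sylX : Syl T (X z 1 2) :=
  ⟨h.TX, h.syl.2.1, fun Q h1 h2 h3 => h.syl.2.2 Q (h1.trans h.X_le_Y04) h2 h3⟩

theorem Fr5.TY : T ≤ Y L z 0 4 := h.syl.1

/-- `O_2(Y_04) = C_O(N_04)` -/
theorem Fr5.o2_Y04 : o2 (Y L z 0 4) = o2 (X z 1 2) ⊓ centralizer (N L z 0 4 : Set G) := by
  apply le_antisymm
  · have h1 : o2 (Y L z 0 4) ≤ X z 1 2 := (ChoiceSit.o2_le_syl h.syl).trans h.TX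
    refine le_inf (ChoiceSit.le_o2 (ChoiceSit.isPGroup_o2 _) h1 (h.X_le_Y04.trans (ChoiceSit.le_normalizer_o2 _))) ?_
    rw [Subgroup.le_centralizer_iff]
    refine h.N04_le.trans (iSup_le fun y => ?_)
    have h2 : zpowers (z 3) ≤ centralizer (o2 (Y L z 0 4) : Set G) := by
      rw [zpowers_le, mem_centralizer_iff]
      intro x hx
      exact (mem_X_iff.1 (h1 hx) 3 (by decide) (by decide)).symm
    have h3 := cj_mono (y : G) h2
    rwa [cj_centralizer, cj_eq_of_mem_normalizer (ChoiceSit.le_normalizer_o2 _ y.2)] at h3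
  · -- `C := C_(Y_04)(N_04) ≤ X_12` is normal in `Y_04`
    set C : Subgroup G := Y L z 0 4 ⊓ centralizer (N L z 0 4 : Set G) with hC
    have hCX : C ≤ X z 1 2 := by
      intro x hx
      obtain ⟨h1, h2⟩ := mem_inf.1 hx
      exact h.Y04_cent h1 (mem_centralizer_iff.1 h2 _ (z_mem_N (by decide) (by decide)))
    have hYC : Y L z 0 4 ≤ normalizer (C : Set G) := by
      intro y hy
      rw [mem_normalizer_iff_cj, hC, cj_inf, cj_centralizer, cj_eq_of_mem_normalizer (Y_norm_N 0 4 hy),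
        cj_eq_of_mem_normalizer (Subgroup.le_normalizer hy)]
    have h1 : o2 (X z 1 2) ⊓ centralizer (N L z 0 4 : Set G) ≤ o2 C := by
      have h2 : o2 (X z 1 2) ⊓ centralizer (N L z 0 4 : Set G) ≤ C :=
        le_inf (inf_le_left.trans ((ChoiceSit.o2_le _).trans h.X_le_Y04)) inf_le_right
      refine ChoiceSit.le_o2 ((ChoiceSit.isPGroup_o2 _).to_le inf_le_left) h2 ?_
      intro c hc
      rw [mem_normalizer_iff_cj, cj_inf, cj_centralizer, cj_eq_of_mem_normalizer (ChoiceSit.le_normalizer_o2 _ (hCX hc)),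
        cj_eq_of_mem_normalizer (Y_norm_N 0 4 ((inf_le_left : C ≤ _) hc))]
    refine h1.trans (ChoiceSit.le_o2 (ChoiceSit.isPGroup_o2 _) ((ChoiceSit.o2_le _).trans inf_le_left) ?_)
    intro y hy
    rw [mem_normalizer_iff_cj, ← o2_cj, cj_eq_of_mem_normalizer (hYC hy)]

end frame

end Cfsg.Agent.Omega.NO3S.MFive
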