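import Cfsg.Agent.Omega.EK3.Rank
import Cfsg.Agent.Omega.EK3.Lever

/-!
# THEOREM M5 (helper693 #24218): the frame

Five involutions `z a` with product 1, permuted as `Sym(5)` by `L`. `X z i j = C_G(z_k : k ≠ i, j)`,
`Y a b = ⟨C_L(z_a, z_b), X_kl⟩`, `N a b = ⟨z_c^(Y a b)⟩`, `M a = ⟨C_L(z_a), X_kl⟩`, `W a = ⟨V^(M a)⟩`.

* `Fr5 L T z` : the hypotheses of THEOREM M5.
-/

set_option autoImplicit false
set_option linter.unusedSectionVars false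

namespace Cfsg.Agent.Omega.NO3S.MFive

open Subgroup Cfsg Cfsg.Agent.ZN Cfsg.Agent.ZN.ChoiceBase
open Cfsg.Agent.ZN.ChoiceSit (Syl)
open Cfsg.Agent.Omega.EK3.Rank (NoOn)

universe u

variable {G : Type u} [Group G]

/-- `⟨K^H⟩` -/
def nc (H K : Subgroup G) : Subgroup G := ⨆ h : H, cj (h : G) K

/-- `X_ij = C_G(z_k : k ≠ i, j)` -/
def X (z : Fin 5 → G) (i j : Fin 5) : Subgroup G := centralizer {g | ∃ k, k ≠ i ∧ k ≠ j ∧ g = z k}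

/-- `V = ⟨z_a⟩` -/
def V (z : Fin 5 → G) : Subgroup G := closure (Set.range z)

/-- `⟨z_c : c ≠ a, b⟩` -/
def Zc (z : Fin 5 → G) (a b : Fin 5) : Subgroup G := closure {g | ∃ c, c ≠ a ∧ c ≠ b ∧ g = z c}

/-- `Y_ab = ⟨C_L(z_a, z_b), X_kl : k, l ≠ a, b⟩` -/
def Y (L : Subgroup G) (z : Fin 5 → G) (a b : Fin 5) : Subgroup G :=
  (L ⊓ centralizer {z a, z b}) ⊔
    ⨆ k : Fin 5, ⨆ l : Fin 5, ⨆ _ : k ≠ l ∧ (k ≠ a ∧ k ≠ b) ∧ l ≠ a ∧ l ≠ b, X z k l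

/-- `N_ab = ⟨z_c^(Y_ab) : c ≠ a, b⟩` -/
def N (L : Subgroup G) (z : Fin 5 → G) (a b : Fin 5) : Subgroup G := nc (Y L z a b) (Zc z a b)

/-- `M_a = ⟨C_L(z_a), X_kl : k, l ≠ a⟩` -/
def M (L : Subgroup G) (z : Fin 5 → G) (a : Fin 5) : Subgroup G :=
  (L ⊓ centralizer {z a}) ⊔ ⨆ k : Fin 5, ⨆ l : Fin 5, ⨆ _ : k ≠ l ∧ k ≠ a ∧ l ≠ a, X z k l

/-- `W_a = ⟨V^(M_a)⟩` -/
def W (L : Subgroup G) (z : Fin 5 → G) (a : Fin 5) : Subgroup G := nc (M L z a) (V z)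

/-- **The hypotheses of THEOREM M5.** -/
structure Fr5 (L T : Subgroup G) (z : Fin 5 → G) : Prop where
  sq : ∀ a, z a * z a = 1
  comm : ∀ a b, z a * z b = z b * z a
  prod : z 0 = z 1 * z 2 * z 3 * z 4
  inj : Function.Injective z
  act : ∀ g ∈ L, ∃ σ : Equiv.Perm (Fin 5), ∀ a, g * z a * g⁻¹ = z (σ a)
  full : ∀ σ : Equiv.Perm (Fin 5), ∃ g ∈ L, ∀ a, g * z a * g⁻¹ = z (σ a)
  cv : centralizer (Set.range z) ≤ L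
  TL : T ≤ L
  TX : T ≤ X z 1 2
  /-- `T = Q⟨t⟩` is a Sylow 2-subgroup of `Y_04` -/
  syl : Syl T (Y L z 0 4)
  /-- `W_0` is elementary abelian -/
  wab : IsElementaryAbelian 2 (W L z 0)
  /-- `C_(W_0)(T) ≤ V_12` -/
  cw : W L z 0 ⊓ centralizer (T : Set G) ≤ centralizer (X z 1 2 : Set G)
  /-- (NO) = (ML) for `Y_04` on `N_04` -/
  no : NoOn (o2 (X z 1 2)) (N L z 0 4)

end Cfsg.Agent.Omega.NO3S.MFive
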