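import Cfsg.Agent.Omega.NO3S.MFive.FailInst
import Cfsg.Agent.Omega.NO3S.TwoB.Main

/-!
# LightL (E), `n = 5`: the full group `C_G(p 0, p 1)` against `Y_04`

`T = C_S(n)`, `H = C_G(p 0, p 1) T`, UNI over `T`:

* `H_le` : `H ≤ Y_04 T`;
* `U_le_N` : `⟨a^H⟩ ≤ N_04`.
-/

set_option autoImplicit false
set_option linter.unusedSectionVars false

namespace Cfsg.Agent.Omega.NO3S.MFive.FullY

open Subgroup Cfsg Cfsg.Agent.ZN Cfsg.Agent.ZN.ChoiceBase
open Cfsg.Agent.ZN.ChoiceSit (Syl o2_cj)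
open Cfsg.Agent.MinSimple.MinParabolic (IsMinPar)
open Cfsg.Agent.Omega.NTwo Cfsg.Agent.Omega.NO3S.Sym.Exit Cfsg.Agent.Omega.NO3S.Sym.Light

universe u

variable {G : Type u} [Group G]

theorem Y_symm (L : Subgroup G) (z : Fin 5 → G) (a b : Fin 5) : Y L z a b = Y L z b a := by
  have key : ∀ a b, Y L z a b ≤ Y L z b a := by
    intro a b
    refine sup_le ?_ (iSup_le fun k => iSup_le fun l => iSup_le ?_)
    · rw [Set.pair_comm]
      exact le_sup_left
    · rintro ⟨h1, ⟨h2, h3⟩, h4, h5⟩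
      exact Inst.X_le_Y h1 h3 h2 h5 h4
  exact le_antisymm (key a b) (key b a)

theorem Zc_symm (z : Fin 5 → G) (a b : Fin 5) : Zc z a b = Zc z b a := by
  rw [Zc, Zc]
  congr 1
  ext x
  constructor
  · rintro ⟨c, h1, h2, h3⟩
    exact ⟨c, h2, h1, h3⟩
  · rintro ⟨c, h1, h2, h3⟩
    exact ⟨c, h2, h1, h3⟩

theorem N_symm (L : Subgroup G) (z : Fin 5 → G) (a b : Fin 5) : N L z a b = N L z b a := by
  rw [N, N, Y_symm, Zc_symm]

variable [Finite G] {S : Sylow 2 G} {P : Subgroup G} {p : Fin 5 → G}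

section inst

variable (h : FiveL S P p)
include h

theorem ind_T {t : G} (ht : t ∈ Std.T (S : Subgroup G) p) :
    ∃ σ, Ind (normalizer (zl (S : Subgroup G) P : Set G)) (zf p) t σ ∧
      ((σ 0 = 0 ∧ σ 4 = 4) ∨ (σ 0 = 4 ∧ σ 4 = 0)) := by
  have htP : t ∈ P := h.std.le (Std.T_le ht)
  obtain ⟨π, hπ⟩ := h.std.perm t htP
  refine ⟨tau0⁻¹ * π * tau0, ⟨Cfsg.Agent.ZN.le_normalizer_zl _ _ htP, fun a => ?_⟩, ?_⟩
  · change t * p (tau0 a) * t⁻¹ = p (tau0 (tau0⁻¹ (π (tau0 a))))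
    rw [hπ]
    exact congrArg p (tau0.apply_symm_apply _).symm
  · have h1 := LightB.T_pair h.toFive ht
    rw [hπ, hπ] at h1
    rcases h1 with ⟨e1, e2⟩ | ⟨e1, e2⟩
    · left
      refine ⟨?_, ?_⟩
      · change tau0.symm (π 0) = 0
        rw [h.std.inj e1]; rfl
      · change tau0.symm (π 1) = 4
        rw [h.std.inj e2]; rfl
    · right
      refine ⟨?_, ?_⟩
      · change tau0.symm (π 0) = 4
        rw [h.std.inj e1]; rfl
      · change tau0.symm (π 1) = 0
        rw [h.std.inj e2]; rfl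

theorem T_norm_N : Std.T (S : Subgroup G) p ≤
    normalizer (N (normalizer (zl (S : Subgroup G) P : Set G)) (zf p) 0 4 : Set G) := by
  intro t ht
  obtain ⟨σ, hσ, h1⟩ := ind_T h ht
  rw [mem_normalizer_iff_cj, hσ.N_eq]
  rcases h1 with ⟨e1, e2⟩ | ⟨e1, e2⟩
  · rw [e1, e2]
  · rw [e1, e2, N_symm]

theorem TH_norm : Std.T (S : Subgroup G) p ≤
    normalizer ((centralizer ({nn p} : Set G) ⊓ centralizer (closure {p 0, p 1} : Set G) : Subgroup G) : Set G) := by
  intro t ht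
  have h1 : cj t (centralizer ({nn p} : Set G)) = centralizer ({nn p} : Set G) :=
    cj_eq_of_mem_normalizer (le_normalizer (LightB.T_le_C ht))
  have h2 : cj t (closure {p 0, p 1}) = closure {p 0, p 1} := by
    rw [cj_closure, Set.image_pair]
    rcases LightB.T_pair h.toFive ht with ⟨e1, e2⟩ | ⟨e1, e2⟩
    · rw [e1, e2]
    · rw [e1, e2, Set.pair_comm]
  rw [mem_normalizer_iff_cj, cj_inf, h1, cj_centralizer, h2]

/-- **`H = C_G(p 0, p 1) T ≤ Y_04 T`** -/
theorem H_le (uni : ∀ R : Subgroup G, IsMinPar (Std.T (S : Subgroup G) p) R → R ≤ centralizer ({nn p} : Set G) →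
      ¬ R ≤ centralizer ({aa p} : Set G) → R ≤ normalizer (zl (S : Subgroup G) P : Set G))
    (nT : normalizer (Std.T (S : Subgroup G) p : Set G) ≤ normalizer (zl (S : Subgroup G) P : Set G)) :
    centralizer ({nn p} : Set G) ⊓ centralizer (closure {p 0, p 1} : Set G) ⊔ Std.T (S : Subgroup G) p ≤
      Y (normalizer (zl (S : Subgroup G) P : Set G)) (zf p) 0 4 ⊔ Std.T (S : Subgroup G) p := by
  obtain ⟨L, hL⟩ : ∃ L, L = normalizer (zl (S : Subgroup G) P : Set G) := ⟨_, rfl⟩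
  rw [← hL] at uni nT ⊢
  have hTL : Std.T (S : Subgroup G) p ≤ L := hL ▸ (Std.T_le.trans (Inst.SL h))
  have hTn := TH_norm h
  set C' := centralizer ({nn p} : Set G) ⊓ centralizer (closure {p 0, p 1} : Set G) with hC'
  have hHC : C' ⊔ Std.T (S : Subgroup G) p ≤ centralizer ({nn p} : Set G) := sup_le inf_le_left LightB.T_le_C
  have dec : ∀ x ∈ C' ⊔ Std.T (S : Subgroup G) p, ∃ c ∈ C', ∃ t ∈ Std.T (S : Subgroup G) p, c * t = x := by
    intro x hx
    have h1 : x ∈ ((C' ⊔ Std.T (S : Subgroup G) p : Subgroup G) : Set G) := hx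
    rw [coe_mul_of_right_le_normalizer_left _ _ hTn] at h1
    obtain ⟨c, hc, t, ht, e⟩ := h1
    exact ⟨c, hc, t, ht, e⟩
  have hc2 : ∀ c ∈ C', c * p 0 = p 0 * c ∧ c * p 1 = p 1 * c := by
    intro c hc
    have h1 := mem_centralizer_iff.1 hc.2
    exact ⟨(h1 _ (subset_closure (Or.inl rfl))).symm, (h1 _ (subset_closure (Or.inr rfl))).symm⟩
  -- elements of `L`
  have inL : ∀ x ∈ C' ⊔ Std.T (S : Subgroup G) p, x ∈ L → x ∈ Y L (zf p) 0 4 ⊔ Std.T (S : Subgroup G) p := by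
    intro x hx hxL
    obtain ⟨c, hc, t, ht, rfl⟩ := dec x hx
    have hcL : c ∈ L := by
      have h1 := mul_mem hxL (inv_mem (hTL ht))
      rwa [mul_inv_cancel_right] at h1
    refine mul_mem (mem_sup_left (mem_sup_left ⟨hcL, mem_centralizer_iff.2 ?_⟩)) (mem_sup_right ht)
    rintro y (rfl | rfl)
    · exact (hc2 c hc).1.symm
    · exact (hc2 c hc).2.symm
  refine Cfsg.Agent.MinSimple.MinParabolic.le_of_forall le_sup_right ?_ ?_
  · rintro x ⟨hx, hxT⟩
    exact inL x hx (nT hxT)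
  · intro R hR hRH x hx
    by_cases hRa : R ≤ centralizer ({aa p} : Set G)
    · obtain ⟨c, hc, t, ht, rfl⟩ := dec x (hRH hx)
      have hca : c ∈ centralizer ({aa p} : Set G) := by
        have h1 := mul_mem (hRa hx) (inv_mem (LightB.T_le_Ca h.toFive ht))
        rwa [mul_inv_cancel_right] at h1
      refine mul_mem (mem_sup_left ?_) (mem_sup_right ht)
      have hcX : c ∈ X (zf p) 1 2 := by
        refine mem_X12f.2 ⟨(hc2 c hc).1, (hc2 c hc).2, comm_iff.1 ?_⟩
        rw [← h.std.na, cm, mem_cent.1 hc.1, mem_cent.1 hca]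
      exact Inst.X_le_Y (by decide) (by decide) (by decide) (by decide) (by decide) hcX
    · exact inL x (hRH hx) (uni R hR (hRH.trans hHC) hRa hx)

/-- **`⟨a^H⟩ ≤ N_04`** -/
theorem U_le_N (uni : ∀ R : Subgroup G, IsMinPar (Std.T (S : Subgroup G) p) R → R ≤ centralizer ({nn p} : Set G) →
      ¬ R ≤ centralizer ({aa p} : Set G) → R ≤ normalizer (zl (S : Subgroup G) P : Set G))
    (nT : normalizer (Std.T (S : Subgroup G) p : Set G) ≤ normalizer (zl (S : Subgroup G) P : Set G)) :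
    NoFF.Basic.V (zpowers (aa p))
      (centralizer ({nn p} : Set G) ⊓ centralizer (closure {p 0, p 1} : Set G) ⊔ Std.T (S : Subgroup G) p) ≤
      N (normalizer (zl (S : Subgroup G) P : Set G)) (zf p) 0 4 := by
  refine TwoB.V_le_of (zpowers_le.2 (le_nc _ _ (mul_mem (subset_closure ⟨1, by decide, by decide, rfl⟩)
    (subset_closure ⟨2, by decide, by decide, rfl⟩)))) ((H_le h uni nT).trans (sup_le (nc_norm _ _) (T_norm_N h)))

end inst

end Cfsg.Agent.Omega.NO3S.MFive.FullY
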