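import Cfsg.Agent.Omega.NO3S.MFive.Frame
import Cfsg.Agent.Omega.NO3S.MFive.Basic
import Cfsg.Agent.Omega.NO3S.MFive.Wab

/-!
# `Fr5` when `X z 1 2 ≤ L` (helper224)

`Fr5` (helper693) holds also in the world `X_12 ≤ L` (it contains the V4 world): then `M L z 0 ≤ L`, `W L z 0 = V z`,
so `wab`, `cw` are trivial. With `Pre.fr5` (helper829) this gives `Fr5` in every case.
-/

set_option autoImplicit false
set_option linter.unusedSectionVars false

namespace Cfsg.Agent.Omega.NO3S.MFive.Le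

open Subgroup Cfsg Cfsg.Agent.ZN Cfsg.Agent.ZN.ChoiceBase
open Cfsg.Agent.ZN.ChoiceSit (Syl)
open Cfsg.Agent.Omega.EK3.Rank (NoOn)

universe u

variable {G : Type u} [Group G] {L T : Subgroup G} {z : Fin 5 → G}

theorem mem_X {i j : Fin 5} {x : G} : x ∈ X z i j ↔ ∀ k, k ≠ i → k ≠ j → x * z k = z k * x := by
  rw [X, mem_centralizer_iff]
  constructor
  · intro h k h1 h2
    exact (h (z k) ⟨k, h1, h2, rfl⟩).symm
  · rintro h _ ⟨k, h1, h2, rfl⟩
    exact (h k h1 h2).symm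

/-- all `X_kl` lie in `L` -/
theorem X_le (full : ∀ σ : Equiv.Perm (Fin 5), ∃ g ∈ L, ∀ a, g * z a * g⁻¹ = z (σ a)) (hX : X z 1 2 ≤ L)
    {k l : Fin 5} (hkl : k ≠ l) : X z k l ≤ L := by
  intro x hx
  obtain ⟨σ, h1, h2⟩ := perm_two (a := 1) (b := 2) (a' := k) (b' := l) (by decide) hkl
  obtain ⟨g, hg, h3⟩ := full σ
  have h4 : g⁻¹ * x * g ∈ X z 1 2 := by
    refine mem_X.2 fun i hi1 hi2 => ?_
    have e1 : σ i ≠ k := fun e => hi1 (σ.injective (e.trans h1.symm))
    have e2 : σ i ≠ l := fun e => hi2 (σ.injective (e.trans h2.symm))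
    have h5 := mem_X.1 hx _ e1 e2
    rw [← h3] at h5
    calc g⁻¹ * x * g * z i = g⁻¹ * (x * (g * z i * g⁻¹)) * g := by group
      _ = z i * (g⁻¹ * x * g) := by rw [h5]; group
  have h5 := mul_mem (mul_mem hg (hX h4)) (inv_mem hg)
  have e : g * (g⁻¹ * x * g) * g⁻¹ = x := by group
  rwa [e] at h5

theorem M_le_L (full : ∀ σ : Equiv.Perm (Fin 5), ∃ g ∈ L, ∀ a, g * z a * g⁻¹ = z (σ a)) (hX : X z 1 2 ≤ L)
    (a : Fin 5) : M L z a ≤ L :=
  sup_le inf_le_left (iSup_le fun _ => iSup_le fun _ => iSup_le fun h => X_le full hX h.1)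

theorem L_norm (act : ∀ g ∈ L, ∃ σ : Equiv.Perm (Fin 5), ∀ a, g * z a * g⁻¹ = z (σ a)) :
    L ≤ normalizer (V z : Set G) := by
  have key : ∀ g ∈ L, ∀ v ∈ V z, g * v * g⁻¹ ∈ V z := by
    intro g hg v hv
    obtain ⟨σ, hσ⟩ := act g hg
    rw [V] at hv
    induction hv using closure_induction with
    | mem x hx =>
      obtain ⟨i, rfl⟩ := hx
      rw [hσ]
      exact subset_closure ⟨_, rfl⟩
    | one => rw [mul_one, mul_inv_cancel]; exact one_mem _
    | mul x y _ _ ihx ihy =>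
      have e : g * (x * y) * g⁻¹ = (g * x * g⁻¹) * (g * y * g⁻¹) := by group
      rw [e]
      exact mul_mem ihx ihy
    | inv x _ ih =>
      have e : g * x⁻¹ * g⁻¹ = (g * x * g⁻¹)⁻¹ := by group
      rw [e]
      exact inv_mem ih
  intro g hg
  rw [mem_normalizer_iff]
  intro v
  refine ⟨key g hg v, fun hv => ?_⟩
  have h1 := key g⁻¹ (inv_mem hg) _ hv
  have e : g⁻¹ * (g * v * g⁻¹) * g⁻¹⁻¹ = v := by group
  rwa [e] at h1

theorem W_le (act : ∀ g ∈ L, ∃ σ : Equiv.Perm (Fin 5), ∀ a, g * z a * g⁻¹ = z (σ a))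
    (full : ∀ σ : Equiv.Perm (Fin 5), ∃ g ∈ L, ∀ a, g * z a * g⁻¹ = z (σ a)) (hX : X z 1 2 ≤ L) (a : Fin 5) :
    W L z a ≤ V z :=
  nc_le le_rfl ((M_le_L full hX a).trans (L_norm act))

theorem V_comm (comm : ∀ a b, z a * z b = z b * z a) : ∀ x ∈ V z, ∀ y ∈ V z, x * y = y * x := by
  intro x hx y hy
  have h1 : V z ≤ centralizer (V z : Set G) := by
    rw [V, centralizer_closure]
    refine (closure_le _).2 ?_
    rintro _ ⟨i, rfl⟩
    refine mem_centralizer_iff.2 ?_
    rintro _ ⟨j, rfl⟩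
    exact comm j i
  exact (mem_centralizer_iff.1 (h1 hx) y hy).symm

theorem V_sq (sq : ∀ a, z a * z a = 1) (comm : ∀ a b, z a * z b = z b * z a) : ∀ x ∈ V z, x * x = 1 := by
  intro x hx
  have hc := V_comm comm
  rw [V] at hx
  induction hx using closure_induction with
  | mem x hx => obtain ⟨i, rfl⟩ := hx; exact sq i
  | one => group
  | mul x y hx hy ihx ihy =>
    have h1 := hc y hy x hx
    calc x * y * (x * y) = x * (y * x) * y := by group
      _ = (x * x) * (y * y) := by rw [h1]; group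
      _ = 1 := by rw [ihx, ihy, one_mul]
  | inv x _ ih =>
    rw [← mul_inv_rev, ih, inv_one]

/-- `C_V(t) ≤ ⟨z_0, z_3, z_4⟩` for `t` over `(12)` -/
theorem cent_t (sq : ∀ a, z a * z a = 1) (comm : ∀ a b, z a * z b = z b * z a)
    (prod : z 0 = z 1 * z 2 * z 3 * z 4) (inj : Function.Injective z) {t : G} (htX : t ∈ X z 1 2)
    (ht : t * z 1 * t⁻¹ = z 2) {v : G} (hv : v ∈ V z) (htv : t * v = v * t) : v ∈ Zc z 1 2 := by
  have hZV : ∀ w ∈ Zc z 1 2, w ∈ V z := by
    intro w hw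
    refine (closure_mono ?_ : Zc z 1 2 ≤ V z) hw
    rintro _ ⟨c, -, -, rfl⟩
    exact ⟨c, rfl⟩
  have hc := V_comm comm
  have hz : ∀ a, z a ∈ V z := fun a => subset_closure ⟨a, rfl⟩
  have hZ : ∀ {c : Fin 5}, c ≠ 1 → c ≠ 2 → z c ∈ Zc z 1 2 := fun h1 h2 => subset_closure ⟨_, h1, h2, rfl⟩
  have h12 : z 1 * z 2 ∈ Zc z 1 2 := by
    have e : z 1 * z 2 = z 0 * z 4 * z 3 := by
      rw [prod]
      calc z 1 * z 2 = z 1 * z 2 * 1 * 1 := by group
        _ = z 1 * z 2 * (z 3 * z 3) * (z 4 * z 4) := by rw [sq, sq]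
        _ = z 1 * z 2 * z 3 * (z 3 * z 4) * z 4 := by group
        _ = z 1 * z 2 * z 3 * (z 4 * z 3) * z 4 := by rw [comm 3 4]
        _ = z 1 * z 2 * z 3 * z 4 * (z 3 * z 4) := by group
        _ = z 1 * z 2 * z 3 * z 4 * (z 4 * z 3) := by rw [comm 3 4]
        _ = z 1 * z 2 * z 3 * z 4 * z 4 * z 3 := by group
    rw [e]
    exact mul_mem (mul_mem (hZ (by decide) (by decide)) (hZ (by decide) (by decide))) (hZ (by decide) (by decide))
  have key : ∀ v ∈ V z, v ∈ Zc z 1 2 ∨ z 1 * v ∈ Zc z 1 2 := by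
    intro v hv
    rw [V] at hv
    induction hv using closure_induction with
    | mem x hx =>
      obtain ⟨i, rfl⟩ := hx
      by_cases h1 : i = 1
      · right; rw [h1, sq]; exact one_mem _
      by_cases h2 : i = 2
      · right; rw [h2]; exact h12
      · left; exact hZ h1 h2
    | one => left; exact one_mem _
    | mul x y hx hy ihx ihy =>
      have hx' : x ∈ V z := hx
      rcases ihx with k1 | k1 <;> rcases ihy with k2 | k2
      · left; exact mul_mem k1 k2
      · right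
        have e : z 1 * (x * y) = x * (z 1 * y) := by
          rw [← mul_assoc, hc _ (hz 1) _ hx', mul_assoc]
        rw [e]; exact mul_mem k1 k2
      · right; rw [← mul_assoc]; exact mul_mem k1 k2
      · left
        have e : x * y = z 1 * x * (z 1 * y) := by
          calc x * y = x * 1 * y := by group
            _ = x * (z 1 * z 1) * y := by rw [sq]
            _ = (x * z 1) * (z 1 * y) := by group
            _ = z 1 * x * (z 1 * y) := by rw [hc _ (hz 1) _ hx']
        rw [e]; exact mul_mem k1 k2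
    | inv x hx ih =>
      have hx' : x ∈ V z := hx
      have e : x⁻¹ = x := inv_eq_of_mul_eq_one_left (V_sq sq comm x hx')
      rwa [e]
  rcases key v hv with h1 | h1
  · exact h1
  · exfalso
    have hw : t * (z 1 * v) = z 1 * v * t := by
      have h2 : ∀ w ∈ Zc z 1 2, t * w = w * t := by
        intro w hw
        have h3 : Zc z 1 2 ≤ centralizer {t} := by
          refine (closure_le _).2 ?_
          rintro _ ⟨c, hc1, hc2, rfl⟩
          exact mem_centralizer_singleton_iff.2 ((mem_X.1 htX c hc1 hc2).symm)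
        exact (mem_centralizer_singleton_iff.1 (h3 hw)).symm
      exact h2 _ h1
    have h3 : t * z 1 * t⁻¹ = z 1 := by
      have e : z 1 = z 1 * v * v⁻¹ := by group
      calc t * z 1 * t⁻¹ = (t * (z 1 * v)) * (t * v)⁻¹ := by group
        _ = (z 1 * v * t) * (v * t)⁻¹ := by rw [hw, htv]
        _ = z 1 := by group
    rw [ht] at h3
    exact absurd (inj h3) (by decide)

/-- **`Fr5` in the world `X z 1 2 ≤ L`**: no `wab`, no `cw`. -/
theorem fr5 (sq : ∀ a, z a * z a = 1) (comm : ∀ a b, z a * z b = z b * z a) (prod : z 0 = z 1 * z 2 * z 3 * z 4)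
    (inj : Function.Injective z) (act : ∀ g ∈ L, ∃ σ : Equiv.Perm (Fin 5), ∀ a, g * z a * g⁻¹ = z (σ a))
    (full : ∀ σ : Equiv.Perm (Fin 5), ∃ g ∈ L, ∀ a, g * z a * g⁻¹ = z (σ a))
    (cv : centralizer (Set.range z) ≤ L) (TL : T ≤ L) (TX : T ≤ X z 1 2) (syl : Syl T (Y L z 0 4))
    (mv : ∃ t ∈ T, t * z 1 * t⁻¹ = z 2) (no : NoOn (o2 (X z 1 2)) (N L z 0 4)) (hX : X z 1 2 ≤ L) :
    Fr5 L T z where
  sq := sq
  comm := comm
  prod := prod
  inj := inj
  act := act
  full := full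
  cv := cv
  TL := TL
  TX := TX
  syl := syl
  wab := by
    have h0 := W_le act full hX 0
    exact ⟨⟨⟨fun x y => Subtype.ext (V_comm comm x (h0 x.2) y (h0 y.2))⟩⟩, fun x hx => by
      rw [pow_two]; exact V_sq sq comm x (h0 hx)⟩
  cw := by
    intro v hv
    obtain ⟨h1, h2⟩ := hv
    obtain ⟨t, ht, h3⟩ := mv
    have h4 := cent_t sq comm prod inj (TX ht) h3 (W_le act full hX 0 h1) (mem_centralizer_iff.1 h2 t ht)
    rw [mem_centralizer_iff]
    intro x hx
    have h5 : Zc z 1 2 ≤ centralizer {x} := by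
      refine (closure_le _).2 ?_
      rintro _ ⟨c, hc1, hc2, rfl⟩
      exact mem_centralizer_singleton_iff.2 ((mem_X.1 hx c hc1 hc2).symm)
    exact (mem_centralizer_singleton_iff.1 (h5 h4)).symm
  no := no

end Cfsg.Agent.Omega.NO3S.MFive.Le
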