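import Cfsg.Agent.Omega.NO3S.MFive.Inst
import Cfsg.Agent.Omega.NO3S.MFive.WabLe

/-!
# `Fr5` over `FiveL` without case distinction (helper224)

`Inst.pre` (helper427) assumes `X_12 ≰ L`. Here: `fr5_all (h : FiveL S P p) hML hz : Fr5 (N_G(V)) (TT S p) (zv p)`, also in
the world `X_12 ≤ L` (V4 world), where `W_0 = V` (`MFive/WabLe.lean`). So (C) (`FailHyp`) and `Fr5.local` need no split.
-/

set_option autoImplicit false
set_option linter.unusedSectionVars false

namespace Cfsg.Agent.Omega.NO3S.MFive.Inst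

open Subgroup Cfsg Cfsg.Agent.ZN Cfsg.Agent.ZN.ChoiceBase
open Cfsg.Agent.ZN.ChoiceSit (Syl exists_syl syl_conj syl_not_dvd)
open Cfsg.Agent.Omega.NTwo Cfsg.Agent.Omega.NO3S.Sym.Exit Cfsg.Agent.Omega.NO3S.Sym.Light
open Cfsg.Agent.Omega.EK3.Rank (NoOn)
open Cfsg.Agent.Omega.MinPar (IsParS NonLoc)
open Cfsg.Agent.Omega.NO3S (Hyp HypN)
open Cfsg.Agent.Omega.Node.MulG (StgG)

universe u

section frame

variable {G : Type u} [Group G] [Finite G] {S : Sylow 2 G} {P : Subgroup G} {p : Fin 5 → G}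
variable (h : FiveL S P p)
include h

theorem wab_all : (∀ x ∈ W (normalizer (zl (S : Subgroup G) P : Set G)) (zv p) 0, x * x = 1) ∧
    ∀ x ∈ W (normalizer (zl (S : Subgroup G) P : Set G)) (zv p) 0,
      ∀ y ∈ W (normalizer (zl (S : Subgroup G) P : Set G)) (zv p) 0, x * y = y * x := by
  by_cases hX : X (zv p) 1 2 ≤ normalizer (zl (S : Subgroup G) P : Set G)
  · have h0 := Le.W_le (fun g hg => act_norm h hg) (full_L h) hX 0
    exact ⟨fun x hx => Le.V_sq (fun a => h.std.sq _) (fun a b => h.std.comm _ _) x (h0 hx),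
      fun x hx y hy => Le.V_comm (fun a b => h.std.comm _ _) x (h0 hx) y (h0 hy)⟩
  · exact (wf_of h hX).wab (W := W (normalizer (zl (S : Subgroup G) P : Set G)) (zv p) 0) rfl

/-- **(NO)** -/
theorem no_all (hML : ML.Final.MLK.{u, u})
    (hT : Syl (TT (S : Subgroup G) p) (Y (normalizer (zl (S : Subgroup G) P : Set G)) (zv p) 0 4)) :
    NoOn (o2 (X (zv p) 1 2)) (N (normalizer (zl (S : Subgroup G) P : Set G)) (zv p) 0 4) := by
  intro F hF hFQ
  obtain ⟨L, hL⟩ : ∃ L : Subgroup G, L = normalizer (zl (S : Subgroup G) P : Set G) := ⟨_, rfl⟩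
  have hfull : ∀ σ : Equiv.Perm (Fin 5), ∃ g ∈ L, ∀ a, g * zv p a * g⁻¹ = zv p (σ a) := by
    rw [hL]; exact full_L h
  have hwab := wab_all h
  rw [← hL] at hT hwab ⊢
  have hbot : normalizer ((⊥ : Subgroup G) : Set G) = ⊤ := normalizer_eq_top _
  have hXY : X (zv p) 1 2 ≤ Y L (zv p) 0 4 :=
    MFive.Inst.X_le_Y (by decide) (by decide) (by decide) (by decide) (by decide)
  have hO : o2 (X (zv p) 1 2) ≤ X (zv p) 1 2 := Cfsg.Agent.ZN.o2_le _
  have hcz : ∀ g ∈ X (zv p) 1 2, g * zv p 3 = zv p 3 * g := fun g hg => mem_X.1 hg 3 (by decide) (by decide)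
  have hYX : ∀ g ∈ Y L (zv p) 0 4, g * zv p 3 * g⁻¹ = zv p 3 → g ∈ X (zv p) 1 2 := by
    intro g hg h1
    have h2 := mem_centralizer_iff.1 (Y_le L (zv p) 0 4 hg)
    exact mem_X12.2 ⟨(h2 (p 4) (Or.inl rfl)).symm, comm_iff.1 h1, (h2 (p 3) (Or.inr rfl)).symm⟩
  have key := hML.grp (h.ctx.kproper _ (Y_ne_top h L))
    (C := Y L (zv p) 0 4) (W := N L (zv p) 0 4) (Y := ⊥) (T := TT (S : Subgroup G) p) (Q := o2 (X (zv p) 1 2))
    (A := F) (w := zv p 3)
    { nW := nc_norm _ _
      nY := by rw [hbot]; exact le_top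
      YW := bot_le
      WY := by rw [hbot]; exact le_top
      sq := fun x hx => by rw [hwab.1 x (N_le_W L (zv p) 0 4 hx)]; exact one_mem _
      mem := le_nc _ _ (subset_closure ⟨3, by decide, by decide, rfl⟩)
      gen := by
        intro U hzU _ hCU
        refine nc_le ((closure_le _).2 ?_) hCU
        rintro _ ⟨c, hc0, hc4, rfl⟩
        obtain ⟨σ, h3, h0, h4⟩ := perm_three (a := 3) (b := 0) (c := 4) (a' := c) (b' := 0) (c' := 4)
          (by decide) (by decide) (by decide) hc0 hc4 (by decide)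
        obtain ⟨g, hg, h5⟩ := hfull σ
        have hgY : g ∈ Y L (zv p) 0 4 := by
          refine mem_sup_left ⟨hg, mem_centralizer_iff.2 ?_⟩
          rintro y (rfl | rfl)
          · exact (comm_iff.1 ((h5 0).trans (by rw [h0]))).symm
          · exact (comm_iff.1 ((h5 4).trans (by rw [h4]))).symm
        have h6 := h5 3
        rw [h3] at h6
        rw [← h6]
        exact (mem_normalizer_iff.1 (hCU hgY) _).1 hzU
      TC := hT.1
      two := hT.2.1
      odd := syl_not_dvd hT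
      fixT := fun t ht => by
        rw [hcz t ht.2]
        simp
      QC := hO.trans hXY
      Q2 := ChoiceSit.isPGroup_o2 _
      fixQ := fun q hq => by
        rw [hcz q (hO hq)]
        simp
      nrmQ := fun g hg h0 q hq => by
        have h1 : g * zv p 3 * g⁻¹ = zv p 3 := mul_inv_eq_one.1 (mem_bot.1 h0)
        exact (mem_normalizer_iff.1 (Cfsg.Agent.MinSimple.VModule.le_normalizer_o2 _ (hYX g hg h1)) q).1 hq
      AQ := hFQ
      Asq := fun a ha x hx => by
        have h1 : a ^ 2 = 1 := hF.2 a ha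
        have e : a * (a * x * a⁻¹) * a⁻¹ * x⁻¹ = (a ^ 2) * x * (a ^ 2)⁻¹ * x⁻¹ := by simp [pow_two, mul_assoc]
        rw [e, h1]
        simp }
    (KA := F ⊓ centralizer (N L (zv p) 0 4 : Set G)) (CW := N L (zv p) 0 4 ⊓ centralizer (F : Set G))
    (fun a => by
      rw [mem_inf, mem_centralizer_iff]
      refine and_congr_right fun _ => forall₂_congr fun x _ => ?_
      rw [mem_bot, mul_inv_eq_one, mul_inv_eq_iff_eq_mul]
      exact eq_comm)
    (fun x => by
      rw [mem_inf, mem_centralizer_iff]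
      refine and_congr_right fun _ => forall₂_congr fun a _ => ?_
      rw [mem_bot, mul_inv_eq_one, mul_inv_eq_iff_eq_mul])
  rwa [inf_relIndex_left, inf_relIndex_left] at key

/-- **`Fr5` over `FiveL`, every case.** -/
theorem fr5_all (hML : ML.Final.MLK.{u, u}) (hz : Cfsg.Agent.ZN.zc (o2 P) = zl (S : Subgroup G) P) :
    Fr5 (normalizer (zl (S : Subgroup G) P : Set G)) (TT (S : Subgroup G) p) (zv p) := by
  by_cases hX : X (zv p) 1 2 ≤ normalizer (zl (S : Subgroup G) P : Set G)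
  · refine Le.fr5 (fun a => h.std.sq _) (fun a b => h.std.comm _ _) (prod_z h) (zfv h).inj
      (fun g hg => act_norm h hg) (full_L h) ?_ (inf_le_left.trans (SL h)) inf_le_right (syl_Y h hz) (exists_t h)
      (no_all h hML (syl_Y h hz)) hX
    rw [← centralizer_closure]
    refine (centralizer_le_normalizer _).trans ?_
    have h1 := V_zv h
    rw [V] at h1
    rw [h1]
  · exact (pre h hML hz hX).fr5 hX

/-- (NO) for `Y_04` on `N_04`, every case -/
theorem fr5_stg {K B ZJ : Subgroup G} (hML : ML.Final.MLK.{u, u}) (hN : HypN S P) (hs : StgG S P K B ZJ) :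
    Fr5 (normalizer (zl (S : Subgroup G) P : Set G)) (TT (S : Subgroup G) p) (zv p) :=
  fr5_all h hML (zc_o2_stg hN hs)

end frame

end Cfsg.Agent.Omega.NO3S.MFive.Inst
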