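import Cfsg.Agent.Omega.NO3S.MFive.Main

/-!
# THEOREM M5, the dichotomy by offenders (helper604 #25469 (1) (ii))

* `HF L z` : an elementary abelian-type lever `F ≤ O_2(X_12)` moving `N_04` with `[W_0, F] ≤ N_04`;
* `Fr5.hf_or` : `HF`, or no elementary abelian `A ≤ O_2(X_12)` offends `W_0`;
* `Fr5.W_le_of`, `Fr5.W_le_W_of` : (5) from `HF`.
-/

set_option autoImplicit false
set_option linter.unusedSectionVars false
set_option linter.unusedVariables false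

namespace Cfsg.Agent.Omega.NO3S.MFive

open Subgroup Cfsg Cfsg.Agent.ZN Cfsg.Agent.ZN.ChoiceBase
open Cfsg.Agent.ZN.ChoiceSit
open Cfsg.Agent.Omega.NO3S.EThree
open Cfsg.Agent.Omega.EK3.Rank (NoOn)
open Cfsg.Agent.Omega.EK3.Lever (Dt relIndex_cj offd_cj)
open Cfsg.Agent.Omega.ESym.CoreS (mem_norm_of_le jj_norm jj_ne_bot)
open scoped commutatorElement

universe u

variable {G : Type u} [Group G]

/-- the lever: `F ≤ O_2(X_12)` moves `N_04` and `[W_0, F] ≤ N_04` -/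
def HF (L : Subgroup G) (z : Fin 5 → G) : Prop :=
  ∃ F : Subgroup G, F ≤ o2 (X z 1 2) ∧ ¬ F ≤ centralizer (N L z 0 4 : Set G) ∧
    ∀ e ∈ W L z 0, ∀ f ∈ F, ⁅e, f⁆ ∈ N L z 0 4

variable [Finite G] {L T : Subgroup G} {z : Fin 5 → G}

section main

variable (h : Fr5 L T z)
include h

/-- an elementary abelian offender of `O_2(X_12)` on `W_0` gives the lever -/
theorem Fr5.hf_of_offd {A : Subgroup G} (hAO : A ≤ o2 (X z 1 2)) (hA : IsElementaryAbelian 2 A)
    (hoff : Offd (W L z 0) A) : HF L z := by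
  obtain ⟨g, σ, hg, hX, hO, h43, h34, y43, y34, hW⟩ := h.swap'
  obtain ⟨i, F, hFO, hFe, hFm, hF⟩ := h.dt.lever hAO hA hoff
  cases i
  · exact ⟨F, hFO, hFm, hF⟩
  · refine ⟨cj g F, ?_, ?_, ?_⟩
    · have := cj_mono g hFO
      rwa [hO] at this
    · intro hc
      apply hFm
      change F ≤ centralizer (N L z 0 3 : Set G)
      rw [← h34, ← cj_centralizer] at hc
      have h1 := cj_mono g⁻¹ hc
      rwa [cj_inv_cj, cj_inv_cj] at h1
    · rintro e he _ ⟨f, hf, rfl⟩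
      rw [← hW] at he
      obtain ⟨e, he, rfl⟩ := he
      have h1 : ⁅e, f⁆ ∈ N L z 0 3 := hF e he f hf
      rw [← h34]
      refine ⟨_, h1, ?_⟩
      exact map_commutatorElement _ _ _

/-- **the dichotomy** -/
theorem Fr5.hf_or : HF L z ∨
    ∀ A : Subgroup G, A ≤ o2 (X z 1 2) → IsElementaryAbelian 2 A → ¬ Offd (W L z 0) A := by
  by_cases hE : ∃ A : Subgroup G, A ≤ o2 (X z 1 2) ∧ IsElementaryAbelian 2 A ∧ Offd (W L z 0) A
  · obtain ⟨A, h1, h2, h3⟩ := hE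
    exact Or.inl (h.hf_of_offd h1 h2 h3)
  · push Not at hE
    exact Or.inr hE

/-- (5) `M_0` normalises `N_03 N_04`: `W_0 ≤ N_03 N_04`. -/
theorem Fr5.W_le_of (hE : HF L z) : W L z 0 ≤ N L z 0 3 ⊔ N L z 0 4 := by
  obtain ⟨F, hFO, hFm, hF⟩ := hE
  have hYE : Y L z 0 4 ≤ normalizer (W L z 0 : Set G) := (Y_le_M_left 0 4).trans (M_norm_W 0)
  -- the normal closure of `F` in `Y_04`
  let K : Subgroup G := nc (Y L z 0 4) F
  have hFY : F ≤ Y L z 0 4 := hFO.trans h.O_le_Y04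
  have hKY : K ≤ Y L z 0 4 := nc_le hFY Subgroup.le_normalizer
  have hYK : Y L z 0 4 ≤ normalizer (K : Set G) := nc_norm _ _
  have hKN : K ≤ normalizer ((N L z 0 3 ⊔ N L z 0 4 : Subgroup G) : Set G) := by
    refine iSup_le fun y => ?_
    intro x hx
    refine mem_norm_of_le ?_
    rw [cj, Subgroup.map_sup]
    have hxY : x ∈ Y L z 0 4 := hKY (cj_le_nc y.2 hx)
    refine sup_le ?_ ?_
    · rintro _ ⟨n, hn, rfl⟩
      change x * n * x⁻¹ ∈ _
      obtain ⟨f, hf, e⟩ := hx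
      have e' : x = (y : G) * f * (y : G)⁻¹ := by rw [← e]; rfl
      have hnE : n ∈ W L z 0 := h.N03_le_W hn
      have hn' : (y : G)⁻¹ * n * y ∈ W L z 0 := by
        have := (mem_normalizer_iff.1 (hYE (inv_mem y.2)) n).1 hnE
        rwa [inv_inv] at this
      have h1 := hF _ hn' f hf
      have h2 : (y : G) * ⁅(y : G)⁻¹ * n * y, f⁆ * (y : G)⁻¹ ∈ N L z 0 4 :=
        (mem_normalizer_iff.1 (Y_norm_N 0 4 y.2) _).1 h1
      have h3 : ⁅n, x⁆ = (y : G) * ⁅(y : G)⁻¹ * n * y, f⁆ * (y : G)⁻¹ := by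
        rw [e']
        simp only [commutatorElement_def]
        group
      have h4 : x * n * x⁻¹ = ⁅n, x⁆⁻¹ * n := by
        simp only [commutatorElement_def]
        group
      rw [h4]
      exact mul_mem (inv_mem (mem_sup_right (by rw [h3]; exact h2))) (mem_sup_left hn)
    · have h1 := cj_eq_of_mem_normalizer (Y_norm_N 0 4 hxY)
      exact (le_of_eq h1).trans le_sup_right
  have hXN : X z 1 2 ≤ normalizer ((N L z 0 3 ⊔ N L z 0 4 : Subgroup G) : Set G) := fun x hx =>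
    norm_sup (Y_norm_N 0 3 (h.X_le_Y03 hx)) (Y_norm_N 0 4 (h.X_le_Y04 hx))
  have h04 : Y L z 0 4 ≤ normalizer ((N L z 0 3 ⊔ N L z 0 4 : Subgroup G) : Set G) :=
    (h.gen hKY hYK (le_nc _ _) (hFO.trans (ChoiceSit.o2_le _)) hFm).trans (sup_le hKN hXN)
  have h03 : Y L z 0 3 ≤ normalizer ((N L z 0 3 ⊔ N L z 0 4 : Subgroup G) : Set G) := by
    obtain ⟨g, σ, hg, hX, hO, h43, h34, y43, y34, hW⟩ := h.swap'
    have h1 := cj_mono g h04
    have e : cj g (N L z 0 3 ⊔ N L z 0 4) = N L z 0 3 ⊔ N L z 0 4 := by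
      have : cj g (N L z 0 3 ⊔ N L z 0 4) = cj g (N L z 0 3) ⊔ cj g (N L z 0 4) := Subgroup.map_sup _ _ _
      rw [this, h34, h43, sup_comm]
    rwa [y43, cj_normalizer, e] at h1
  refine nc_le ((closure_le _).2 ?_) (h.M_le.trans (sup_le h03 h04))
  have hz : ∀ c, c ≠ 0 → z c ∈ N L z 0 3 ⊔ N L z 0 4 := by
    intro c h0
    by_cases h4 : c = 4
    · rw [h4]
      exact mem_sup_left (z_mem_N (by decide) (by decide))
    · exact mem_sup_right (z_mem_N h0 h4)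
  rintro _ ⟨c, rfl⟩
  by_cases h0 : c = 0
  · rw [h0, h.prod]
    exact mul_mem (mul_mem (mul_mem (hz 1 (by decide)) (hz 2 (by decide))) (hz 3 (by decide))) (hz 4 (by decide))
  · exact hz c h0

/-- `W_a ≤ W_b W_c` -/
theorem Fr5.W_le_W_of (hE : HF L z) {a b c : Fin 5} (hab : a ≠ b) (hac : a ≠ c)
    (hbc : b ≠ c) : W L z a ≤ W L z b ⊔ W L z c := by
  have h1 : W L z 0 ≤ W L z 3 ⊔ W L z 4 :=
    (h.W_le_of hE).trans (sup_le_sup (N_le_W_right 0 3) (N_le_W_right 0 4))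
  obtain ⟨τ, t0, t3, t4⟩ := perm_three (a := 0) (b := 3) (c := 4) (a' := a) (b' := b) (c' := c) (by decide)
    (by decide) (by decide) hab hac hbc
  obtain ⟨g, hg⟩ := h.ind τ
  have h2 := cj_mono g h1
  have e : cj g (W L z 3 ⊔ W L z 4) = cj g (W L z 3) ⊔ cj g (W L z 4) := Subgroup.map_sup _ _ _
  rwa [e, hg.W_eq, hg.W_eq, hg.W_eq, t0, t3, t4] at h2

end main

end Cfsg.Agent.Omega.NO3S.MFive
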