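import Cfsg.Agent.Omega.NO3S.MFive.Core

/-!
# THEOREM M5: the frame `Fr5` in another order of the letters

* `Rx.fr5_reindex` : `Fr5 L T z → ∃ g ∈ L` inducing `σ`, `Fr5 L (cj g T) (z ∘ σ)`.
-/

set_option autoImplicit false
set_option linter.unusedSectionVars false

namespace Cfsg.Agent.Omega.NO3S.MFive.Rx

open Subgroup Cfsg Cfsg.Agent.ZN Cfsg.Agent.ZN.ChoiceBase
open Cfsg.Agent.ZN.ChoiceSit
open Cfsg.Agent.Omega.EK3.Rank (NoOn)
open Cfsg.Agent.Omega.EK3.Lever (relIndex_cj)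
open Cfsg.Agent.Omega.NO3S.EThree.ExactA (eab_mono eab_sup eab_iff)

universe u

variable {G : Type u} [Group G] {L : Subgroup G} {z : Fin 5 → G}

section comp

variable (σ : Equiv.Perm (Fin 5))

theorem range_comp : Set.range (fun a => z (σ a)) = Set.range z := by
  ext x
  constructor
  · rintro ⟨a, rfl⟩
    exact ⟨σ a, rfl⟩
  · rintro ⟨a, rfl⟩
    exact ⟨σ⁻¹ a, by simp⟩

theorem V_comp : V (fun a => z (σ a)) = V z := by
  rw [V, V, range_comp]

theorem X_comp (i j : Fin 5) : X (fun a => z (σ a)) i j = X z (σ i) (σ j) := by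
  rw [X, X]
  congr 1
  ext x
  constructor
  · rintro ⟨k, h1, h2, rfl⟩
    exact ⟨σ k, fun e => h1 (σ.injective e), fun e => h2 (σ.injective e), rfl⟩
  · rintro ⟨k, h1, h2, rfl⟩
    refine ⟨σ⁻¹ k, ?_, ?_, by simp⟩
    · rintro rfl
      exact h1 (by simp)
    · rintro rfl
      exact h2 (by simp)

theorem Zc_comp (i j : Fin 5) : Zc (fun a => z (σ a)) i j = Zc z (σ i) (σ j) := by
  rw [Zc, Zc]
  congr 1
  ext x
  constructor
  · rintro ⟨k, h1, h2, rfl⟩
    exact ⟨σ k, fun e => h1 (σ.injective e), fun e => h2 (σ.injective e), rfl⟩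
  · rintro ⟨k, h1, h2, rfl⟩
    refine ⟨σ⁻¹ k, ?_, ?_, by simp⟩
    · rintro rfl
      exact h1 (by simp)
    · rintro rfl
      exact h2 (by simp)

theorem Y_comp (a b : Fin 5) : Y L (fun a => z (σ a)) a b = Y L z (σ a) (σ b) := by
  rw [Y, Y]
  refine congrArg (fun R => (L ⊓ centralizer {z (σ a), z (σ b)}) ⊔ R) ?_
  apply le_antisymm
  · refine iSup_le fun k => iSup_le fun l => iSup_le fun hkl => ?_
    rw [X_comp]
    refine le_iSup_of_le (σ k) (le_iSup_of_le (σ l) (le_iSup_of_le ?_ le_rfl))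
    simpa using hkl
  · refine iSup_le fun k => iSup_le fun l => iSup_le fun hkl => ?_
    refine le_iSup_of_le (σ⁻¹ k) (le_iSup_of_le (σ⁻¹ l) (le_iSup_of_le ?_ ?_))
    · refine ⟨fun e => hkl.1 (by simpa using e), ⟨?_, ?_⟩, ?_, ?_⟩
      · rintro rfl
        exact hkl.2.1.1 (by simp)
      · rintro rfl
        exact hkl.2.1.2 (by simp)
      · rintro rfl
        exact hkl.2.2.1 (by simp)
      · rintro rfl
        exact hkl.2.2.2 (by simp)
    · rw [X_comp]
      simp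

theorem M_comp (a : Fin 5) : M L (fun a => z (σ a)) a = M L z (σ a) := by
  rw [M, M]
  refine congrArg (fun R => (L ⊓ centralizer {z (σ a)}) ⊔ R) ?_
  apply le_antisymm
  · refine iSup_le fun k => iSup_le fun l => iSup_le fun hkl => ?_
    rw [X_comp]
    refine le_iSup_of_le (σ k) (le_iSup_of_le (σ l) (le_iSup_of_le ?_ le_rfl))
    simpa using hkl
  · refine iSup_le fun k => iSup_le fun l => iSup_le fun hkl => ?_
    refine le_iSup_of_le (σ⁻¹ k) (le_iSup_of_le (σ⁻¹ l) (le_iSup_of_le ?_ ?_))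
    · refine ⟨fun e => hkl.1 (by simpa using e), ?_, ?_⟩
      · rintro rfl
        exact hkl.2.1 (by simp)
      · rintro rfl
        exact hkl.2.2 (by simp)
    · rw [X_comp]
      simp

theorem N_comp (a b : Fin 5) : N L (fun a => z (σ a)) a b = N L z (σ a) (σ b) := by
  rw [N, N, Y_comp, Zc_comp]

theorem W_comp (a : Fin 5) : W L (fun a => z (σ a)) a = W L z (σ a) := by
  rw [W, W, M_comp, V_comp]

end comp

theorem ind_comp {g : G} {σ τ : Equiv.Perm (Fin 5)} (h : Ind L z g τ) :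
    Ind L (fun a => z (σ a)) g (σ⁻¹ * τ * σ) where
  mem := h.mem
  eq := fun a => by simp [h.eq]

/-- the product of the five involutions in any order -/
theorem prod_perm {z : Fin 5 → G} (prod : z 0 = z 1 * z 2 * z 3 * z 4) {g : G} {σ : Equiv.Perm (Fin 5)} (hg : ∀ a, g * z a * g⁻¹ = z (σ a)) :
    z (σ 0) = z (σ 1) * z (σ 2) * z (σ 3) * z (σ 4) := by
  rw [← hg 0, ← hg 1, ← hg 2, ← hg 3, ← hg 4, prod]
  group

theorem syl_cjR [Finite G] {T X : Subgroup G} (g : G) (h : Syl T X) : Syl (cj g T) (cj g X) := by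
  refine ⟨cj_mono g h.1, isPGroup_cj g h.2.1, fun Q hQ hp hT => ?_⟩
  have h1 := h.2.2 (cj g⁻¹ Q) ?_ (isPGroup_cj _ hp) ?_
  · rw [← h1, cj_cj_inv]
  · have := cj_mono g⁻¹ hQ
    rwa [cj_inv_cj] at this
  · have := cj_mono g⁻¹ hT
    rwa [cj_inv_cj] at this

/-- **the frame in another order of the letters** -/
theorem fr5_reindex [Finite G] {T : Subgroup G} (h : Fr5 L T z) {g : G} {σ : Equiv.Perm (Fin 5)}
    (hg : Ind L z g σ) : Fr5 L (cj g T) (fun a => z (σ a)) where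
  sq := fun a => h.sq _
  comm := fun a b => h.comm _ _
  prod := prod_perm h.prod hg.eq
  inj := fun a b hab => σ.injective (h.inj hab)
  act := fun x hx => by
    obtain ⟨τ, hτ⟩ := h.act x hx
    exact ⟨σ⁻¹ * τ * σ, (ind_comp (σ := σ) ⟨hx, hτ⟩ : Ind L _ x _).eq⟩
  full := fun τ => by
    obtain ⟨x, hx, h1⟩ := h.full (σ * τ * σ⁻¹)
    refine ⟨x, hx, fun a => ?_⟩
    rw [h1]
    simp
  cv := by
    rw [range_comp]
    exact h.cv
  TL := by
    rintro _ ⟨x, hx, rfl⟩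
    exact mul_mem (mul_mem hg.mem (h.TL hx)) (inv_mem hg.mem)
  TX := by
    rw [X_comp, ← hg.X_eq]
    exact cj_mono g h.TX
  syl := by
    rw [Y_comp, ← hg.Y_eq]
    exact syl_cjR g h.syl
  wab := by
    rw [W_comp, ← hg.W_eq]
    exact isElementaryAbelian_cj g h.wab
  cw := by
    rw [W_comp, ← hg.W_eq, X_comp, ← hg.X_eq, ← cj_centralizer, ← cj_inf, ← cj_centralizer]
    exact cj_mono g h.cw
  no := by
    intro A hA hAO
    rw [N_comp, ← hg.N_eq]
    rw [X_comp, ← hg.X_eq, o2_cj] at hAO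
    have h1 := h.no (cj g⁻¹ A) (isElementaryAbelian_cj g⁻¹ hA) (by
      have h2 := cj_mono g⁻¹ hAO
      rwa [cj_inv_cj] at h2)
    have h2 : cj g (cj g⁻¹ A) = A := cj_cj_inv g A
    rw [← relIndex_cj g, ← relIndex_cj g (centralizer ((cj g⁻¹ A : Subgroup G) : Set G)) _, cj_centralizer,
      cj_centralizer, h2] at h1
    exact h1

theorem fr5_exists_reindex [Finite G] {T : Subgroup G} (h : Fr5 L T z) (σ : Equiv.Perm (Fin 5)) :
    ∃ g, Ind L z g σ ∧ Fr5 L (cj g T) (fun a => z (σ a)) := by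
  obtain ⟨g, hg⟩ := h.ind σ
  exact ⟨g, hg, fr5_reindex h hg⟩

end Cfsg.Agent.Omega.NO3S.MFive.Rx
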