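import Cfsg.Agent.Omega.Node.SymG
import Cfsg.Agent.Omega.NO3S.Level.Fam

/-!
# THEOREM M5: (T6) `Ω₁(Z(O₂(P))) = V_P` at every stage `StgG`

* `zc_o2_stg` : `HypN S P` and `StgG S P K B ZJ` (stage `-1`, every level, the case (L)).
-/

set_option autoImplicit false

namespace Cfsg.Agent.Omega.NO3S.MFive

open Subgroup Cfsg Cfsg.Agent.ZN Cfsg.Agent.ZN.ChoiceBase
open Cfsg.Agent.Omega.MinPar (IsParS)
open Cfsg.Agent.Omega.NO3S (HypF HypN Hyp)
open Cfsg.Agent.Omega.NO3S.Level (lev nxt Lev BO)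
open Cfsg.Agent.Omega.Node.MulG (Top StgG)

universe u

variable {G : Type u} [Group G] [Finite G] {S : Sylow 2 G} {P K B ZJ : Subgroup G}

/-- `nxt S K₀ ≰ O₂(P)` gives a best offender. -/
theorem exists_BO_stg (hG : IsCharacteristicTwoType G) (hP : IsParS (S : Subgroup G) P) {K₀ : Subgroup G}
    (h : Top S P K₀) : ∃ A ∈ BO (S : Subgroup G) K₀, ¬ A ≤ o2 P := by
  by_contra hcon
  push Not at hcon
  apply h.nxt
  refine sup_le ?_ (sSup_le hcon)
  have h3 : zl (S : Subgroup G) P ≤ zc K₀ :=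
    (hP.isLoc.zl_le S hG).trans (h.lev.zc_o2_le h.le (hP.isLoc.o2_le S))
  rw [← IsParS.inf_centralizer S hG hP]
  exact inf_le_inf_left _ (centralizer_le h3)

/-- **(T6) at every stage**: `Ω₁(Z(O₂(P))) = V_P`. -/
theorem zc_o2_stg (h : HypN S P) (hs : StgG S P K B ZJ) : Cfsg.Agent.ZN.zc (o2 P) = zl (S : Subgroup G) P := by
  have hG := h.ctx.char2
  have hP := h.star
  cases hs with
  | neg hj =>
    have hQS : o2 P ≤ (S : Subgroup G) := NO3S.OneLine.o2_le S hP.toIsPar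
    have hJ : ¬ jj (S : Subgroup G) ≤ centralizer (zl (S : Subgroup G) P : Set G) := fun hc => hj (by
      rw [← IsParS.inf_centralizer S hG hP]
      exact le_inf (ChoiceBase.jj_le _) hc)
    obtain ⟨A, hA, hAQ⟩ := NO3S.OneLine.exists_AA hG hP hJ
    have hX : IsElementaryAbelian 2 (Cfsg.Agent.ZN.zc (o2 P)) := NO3S.OneLine.zc_elem _
    have hXS : Cfsg.Agent.ZN.zc (o2 P) ≤ (S : Subgroup G) := (Cfsg.Agent.MinSimple.VModule.zc_le _).trans hQS
    have hb := NO3S.Level.bfam_AA (S := (S : Subgroup G)) (L := ⊤) hX hXS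
    have h1 := NO3S.OneLine.exa_bo FF.Glob.ffthmM hG hP hX hXS
      ((Cfsg.Agent.MinSimple.VModule.le_normalizer_o2 P).trans (NO3S.Level.normalizer_le_zc _)) le_rfl
      h.toHyp.inf_eq_bot ⟨A, ⟨hb.le A hA, hb.elem A hA, hb.best A hA⟩, hAQ⟩
    exact h1.1.zc_o2 h1.2
  | lev K₀ hT =>
    exact (NO3S.OneLine.lev_eq FF.Glob.ffthmM hG hP hT.lev hT.le h.toHyp.inf_eq_bot
      (exists_BO_stg hG hP hT)).1

end Cfsg.Agent.Omega.NO3S.MFive
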